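import Cfsg.Agent.H86.AbelianColumns
import Cfsg.Agent.Cores.PCore

/-!
# Abelian Sylow 2-subgroups with free fusion: centralizers
-/

set_option autoImplicit false
set_option linter.unusedSectionVars false
set_option linter.style.haveILetI false

namespace Cfsg.Agent.H29.AbTwo

open Subgroup

universe u

variable {G : Type u} [Group G] [Finite G]

/-- The odd core of a centralizer, inside the whole group. -/
noncomputable def oddAt (v : G) : Subgroup G :=
  (pPrimeCore 2 (centralizer ({v} : Set G))).map (centralizer ({v} : Set G)).subtype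

theorem oddAt_le (v : G) : oddAt v ≤ centralizer ({v} : Set G) := map_subtype_le _

theorem odd_card_oddAt (v : G) : Odd (Nat.card (oddAt v)) := by
  haveI : Fact (Nat.Prime 2) := ⟨Nat.prime_two⟩
  rw [oddAt, card_map_of_injective (subtype_injective _), Nat.odd_iff]
  have := Cores.not_dvd_card_pPrimeCore (p := 2) (G := centralizer ({v} : Set G))
  omega

theorem odd_orderOf_of_mem {H : Subgroup G} (hH : Odd (Nat.card H)) {x : G} (hx : x ∈ H) :
    Odd (orderOf x) := by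
  rw [← orderOf_mk x hx]
  exact hH.of_dvd_nat (orderOf_dvd_natCard _)

theorem eq_one_of_odd_of_sq {x : G} (h : Odd (orderOf x)) (h2 : x ^ 2 = 1) : x = 1 := by
  rw [← orderOf_eq_one_iff]
  rcases (Nat.dvd_prime Nat.prime_two).1 (orderOf_dvd_of_pow_eq_one h2) with h' | h'
  · exact h'
  · rw [h'] at h; exact absurd h (by decide)

theorem mem_oddAt_iff {v : G} (hn : H86.PNilAt 2 v) {x : G} :
    x ∈ oddAt v ↔ x * v = v * x ∧ Odd (orderOf x) := by
  haveI : Fact (Nat.Prime 2) := ⟨Nat.prime_two⟩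
  constructor
  · intro hx
    exact ⟨mem_centralizer_singleton_iff.1 (oddAt_le v hx),
      odd_orderOf_of_mem (odd_card_oddAt v) hx⟩
  · rintro ⟨hc, ho⟩
    refine ⟨⟨x, mem_centralizer_singleton_iff.2 hc⟩, (H86.mem_core_iff hn _).2 ?_, rfl⟩
    rw [orderOf_mk]
    rw [Nat.odd_iff] at ho
    omega

theorem mem_oddAt_of_pow {v : G} {j : ℕ} (hn : H86.PNilAt 2 (v ^ j)) {x : G} (hx : x ∈ oddAt v) :
    x ∈ oddAt (v ^ j) :=
  (mem_oddAt_iff hn).2 ⟨(Commute.pow_right (mem_centralizer_singleton_iff.1 (oddAt_le v hx)) j).eq,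
    odd_orderOf_of_mem (odd_card_oddAt v) hx⟩

theorem conj_oddAt {v : G} (g : G) (hn : H86.PNilAt 2 v) (hn' : H86.PNilAt 2 (g * v * g⁻¹))
    {x : G} (hx : x ∈ oddAt v) : g * x * g⁻¹ ∈ oddAt (g * v * g⁻¹) := by
  obtain ⟨hc, ho⟩ := (mem_oddAt_iff hn).1 hx
  refine (mem_oddAt_iff hn').2 ⟨?_, ?_⟩
  · calc g * x * g⁻¹ * (g * v * g⁻¹) = g * (x * v) * g⁻¹ := by group
      _ = g * (v * x) * g⁻¹ := by rw [hc]
      _ = _ := by group
  · rwa [← MulAut.conj_apply, MulEquiv.orderOf_eq]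

variable (P : Sylow 2 G) [IsMulCommutative (P : Subgroup G)]

/-- The squares-trivial part of the Sylow subgroup. -/
def omega : Subgroup G where
  carrier := {x | x ∈ (P : Subgroup G) ∧ x ^ 2 = 1}
  one_mem' := ⟨one_mem _, one_pow 2⟩
  mul_mem' := by
    rintro a b ⟨ha, ha2⟩ ⟨hb, hb2⟩
    refine ⟨mul_mem ha hb, ?_⟩
    rw [(show Commute a b from H86.Abelian.mul_comm_sylow P ha hb).mul_pow, ha2, hb2, one_mul]
  inv_mem' := by
    rintro a ⟨ha, ha2⟩
    exact ⟨inv_mem ha, by rw [inv_pow, ha2, inv_one]⟩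

theorem mem_omega {x : G} : x ∈ omega P ↔ x ∈ (P : Subgroup G) ∧ x ^ 2 = 1 := Iff.rfl

theorem omega_le : omega P ≤ (P : Subgroup G) := fun _ h => h.1

theorem conj_mem_omega {n x : G} (hn : n ∈ normalizer ((P : Subgroup G) : Set G))
    (hx : x ∈ omega P) : n * x * n⁻¹ ∈ omega P :=
  ⟨(mem_normalizer_iff.1 hn x).1 hx.1, by rw [conj_pow, hx.2, mul_one, mul_inv_cancel]⟩

variable {P}

theorem mem_centralizer_of_mem {x : G} (hx : x ∈ (P : Subgroup G)) :
    (P : Subgroup G) ≤ centralizer ({x} : Set G) := fun _ hy =>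
  mem_centralizer_singleton_iff.2 (H86.Abelian.mul_comm_sylow P hy hx)

theorem exists_pow_omega {v : G} (hv : v ∈ (P : Subgroup G)) (hv1 : v ≠ 1) :
    ∃ j : ℕ, v ^ j ∈ omega P ∧ v ^ j ≠ 1 := by
  haveI : Fact (Nat.Prime 2) := ⟨Nat.prime_two⟩
  obtain ⟨k, hk⟩ := H86.Abelian.exists_orderOf P ⟨v, hv⟩
  cases k with
  | zero => exact absurd (orderOf_eq_one_iff.1 (by simpa using hk)) hv1
  | succ k =>
    refine ⟨2 ^ k, ⟨pow_mem hv _, ?_⟩, fun h => ?_⟩
    · rw [← pow_mul, ← pow_succ, ← hk]; exact pow_orderOf_eq_one v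
    · have := Nat.le_of_dvd (by positivity) (hk ▸ orderOf_dvd_of_pow_eq_one h)
      rw [pow_succ] at this
      have := Nat.two_pow_pos k
      omega

theorem orderOf_omega {a : G} (ha : a ∈ omega P) (ha1 : a ≠ 1) : orderOf a = 2 :=
  orderOf_eq_prime ha.2 ha1

theorem centralizer_eq {v : G} (hfix : H86.Abelian.FreeFusion P) (hv : v ∈ (P : Subgroup G))
    (hv1 : v ≠ 1) {c : G} (hc : c ∈ centralizer ({v} : Set G)) :
    ∃ k ∈ oddAt v, ∃ y ∈ (P : Subgroup G), c = k * y := by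
  haveI : Fact (Nat.Prime 2) := ⟨Nat.prime_two⟩
  obtain ⟨j, hj⟩ := H86.Abelian.pNilAt_of_mem P hfix hv hv1
  set C := centralizer ({v} : Set G)
  set K := pPrimeCore 2 C with hK
  set Q := P.subtype (mem_centralizer_of_mem hv)
  have htop : K ⊔ (Q : Subgroup C) = ⊤ := by
    apply index_eq_one.1
    have h1 : (K ⊔ (Q : Subgroup C)).index ∣ 2 ^ j := hj ▸ index_dvd_of_le le_sup_left
    have h2 : (K ⊔ (Q : Subgroup C)).index ∣ (Q : Subgroup C).index := index_dvd_of_le le_sup_right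
    exact Nat.eq_one_of_dvd_coprimes
      (Nat.Coprime.pow_left j (Nat.prime_two.coprime_iff_not_dvd.2 Q.not_dvd_index)) h1 h2
  have hc' : (⟨c, hc⟩ : C) ∈ K ⊔ (Q : Subgroup C) := htop ▸ mem_top _
  rw [← SetLike.mem_coe, normal_mul K (Q : Subgroup C)] at hc'
  obtain ⟨k, hk, y, hy, hky⟩ := hc'
  exact ⟨k, ⟨k, hk, rfl⟩, y, hy, congrArg Subtype.val hky.symm⟩

/-- A nontrivial 2-element commuting inversion is impossible in an abelian Sylow subgroup. -/
theorem sq_eq_one_of_inverted (P : Sylow 2 G) [IsMulCommutative (P : Subgroup G)] {v a : G} (hv : ∃ k, orderOf v = 2 ^ k) (ha : a ^ 2 = 1)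
    (h : a * v * a⁻¹ = v⁻¹) : v ^ 2 = 1 := by
  haveI : Fact (Nat.Prime 2) := ⟨Nat.prime_two⟩
  set V := zpowers v
  set A := zpowers a
  have hAN : A ≤ normalizer (V : Set G) := by
    refine zpowers_le.2 ?_
    rw [mem_normalizer_iff_conj_image_eq, ← MulEquiv.coe_toMonoidHom, ← coe_map,
      MonoidHom.map_zpowers, SetLike.coe_set_eq]
    show zpowers (a * v * a⁻¹) = V
    rw [h, zpowers_inv]
  have hV : IsPGroup 2 V := by
    obtain ⟨k, hk⟩ := hv
    exact IsPGroup.of_card (n := k) (by rw [Nat.card_zpowers, hk])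
  have hA : IsPGroup 2 A := fun x => ⟨1, Subtype.ext (by
    obtain ⟨i, hi⟩ := mem_zpowers_iff.1 x.2
    rw [Subgroup.coe_pow, ← hi, pow_one, ← zpow_natCast (a ^ i), ← zpow_mul, mul_comm, zpow_mul,
      zpow_natCast, ha, one_zpow, Subgroup.coe_one])⟩
  obtain ⟨S, hS⟩ := (hV.to_sup_of_normal_left' hA hAN).exists_le_sylow
  obtain ⟨g, hg⟩ := MulAction.exists_smul_eq G S P
  have hmem : ∀ x ∈ (S : Subgroup G), g * x * g⁻¹ ∈ (P : Subgroup G) := by
    intro x hx
    rw [← hg]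
    exact (Fusion.mem_sylow_smul).2 (by rw [show g⁻¹ * (g * x * g⁻¹) * g = x by group]; exact hx)
  have hc := H86.Abelian.mul_comm_sylow P (hmem a (hS (le_sup_right (α := Subgroup G)
    (mem_zpowers a)))) (hmem v (hS (le_sup_left (α := Subgroup G) (mem_zpowers v))))
  have hc' : a * v = v * a := by
    have e1 : g * (a * v) * g⁻¹ = g * (v * a) * g⁻¹ := by
      calc g * (a * v) * g⁻¹ = g * a * g⁻¹ * (g * v * g⁻¹) := by group
        _ = g * v * g⁻¹ * (g * a * g⁻¹) := hc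
        _ = g * (v * a) * g⁻¹ := by group
    simpa using e1
  rw [hc', mul_inv_cancel_right] at h
  rw [pow_two]
  nth_rewrite 1 [h]
  exact inv_mul_cancel v

end Cfsg.Agent.H29.AbTwo
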