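import Cfsg.Agent.H29.AbTwo.Basic
import Cfsg.Agent.H80.PuigUsami.SmallDefect
import Cfsg.Agent.H82.NineBasic
import Cfsg.Agent.S4639
import Cfsg.Agent.S4652
import Cfsg.Agent.S4681

/-!
# The bounds for the principal block with a free abelian automizer
-/

set_option autoImplicit false
set_option linter.unusedSectionVars false
set_option linter.style.haveILetI false

namespace Cfsg.Agent.H29.AbTwo

open Subgroup

universe u

variable {G : Type u} [Group G] [Finite G] {p : ℕ} [Fact p.Prime] {M : Ideal AlgInt}
variable (P : Sylow p G) [IsMulCommutative (P : Subgroup G)]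

/-- The bounds on the numbers of ordinary and modular characters. -/
theorem bound (hM : IsPModular p M) (hfix : H86.Abelian.FreeFusion P) (hP : (P : Subgroup G) ≠ ⊥)
    (hab : ∀ g ∈ normalizer ((P : Subgroup G) : Set G),
      ∀ h ∈ normalizer ((P : Subgroup G) : Set G),
        g * h * g⁻¹ * h⁻¹ ∈ centralizer ((P : Subgroup G) : Set G))
    {e : ℕ} (he : (centralizer ((P : Subgroup G) : Set G)).relIndex
      (normalizer ((P : Subgroup G) : Set G)) = e) :
    Nat.card (principalBlock M G) ≤ e + (Nat.card (P : Subgroup G) - 1) / e ∧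
      blockRank p (principalBlock M G) ≤ e ∧
      (Nat.card (principalBlock M G) = e + (Nat.card (P : Subgroup G) - 1) / e ↔
        blockRank p (principalBlock M G) = e) ∧
      (e ≤ 3 → Nat.card (principalBlock M G) = e + (Nat.card (P : Subgroup G) - 1) / e ∧
        blockRank p (principalBlock M G) = e) := by
  classical
  cases nonempty_fintype G
  have hmax := (S4681.result p M hM P).1
  have hcomm : ∀ x ∈ (P : Subgroup G), ∀ y ∈ (P : Subgroup G), x * y = y * x :=
    fun x hx y hy => H86.Abelian.mul_comm_sylow P hx hy
  refine S4639.result p M hM _ hmax.1.2.1 (P : Subgroup G)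
    ((S4652.result p M hM _).2 ⟨P, rfl⟩) hP hcomm _
    (H80.PuigUsami.induced_self hM hmax hcomm) (normalizer ((P : Subgroup G) : Set G))
    (fun g => ?_) e he hab hfix
  rw [H82.stabilizesBlock_iff_conjPair hM hmax.1.1.2, ← H80.Watanabe.mem_stab,
    H82.Nine.stab_principal]

end Cfsg.Agent.H29.AbTwo
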