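import Cfsg.Agent.H29.AbTwo.Index
import Cfsg.Agent.H24.FSIndicator

/-!
# Counting the principal characters in the elementary abelian strongly embedded case
-/

set_option autoImplicit false
set_option linter.unusedSectionVars false
set_option linter.style.haveILetI false
set_option maxHeartbeats 1000000

open scoped ComplexConjugate

namespace Cfsg.Agent.H29.AbTwo

open Subgroup CharInduce CharBasic BlockBasic

universe u

variable {G : Type u} [Group G] [Fintype G] {M : Ideal AlgInt}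
variable {P : Sylow 2 G} [IsMulCommutative (P : Subgroup G)]
variable (hfix : H86.Abelian.FreeFusion P) (hrank : 8 ≤ Nat.card (omega P))
variable (hab : ∀ g ∈ normalizer ((P : Subgroup G) : Set G),
  ∀ h ∈ normalizer ((P : Subgroup G) : Set G),
    g * h * g⁻¹ * h⁻¹ ∈ centralizer ((P : Subgroup G) : Set G))
variable (hSE : IsStronglyEmbedded (bigM P))

include hfix hrank hSE in
/-- With the minimal index the odd closure is normal. -/
theorem bigW_normal (hidx : (bigM P).index = Nat.card (P : Subgroup G) + 1) :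
    (bigW P).Normal := by
  classical
  haveI : Fact (Nat.Prime 2) := ⟨Nat.prime_two⟩
  let c1 : G ⧸ bigM P := QuotientGroup.mk 1
  have hfixM : ∀ m ∈ bigM P, m • c1 = c1 := fun m hm =>
    H39.se_smul_mk_eq_iff.2 (by simpa using hm)
  have hWfix : ∀ w ∈ bigW P, ∀ c : G ⧸ bigM P, w • c = c := by
    intro w hw c
    by_cases hc : c = c1
    · rw [hc]; exact hfixM w (bigW_le_bigM hw)
    let β := {d : G ⧸ bigM P // d ≠ c1}
    have hmove : ∀ m ∈ bigM P, m • c ≠ c1 := fun m hm e => hc (by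
      have h := congrArg (m⁻¹ • ·) e
      simp only [inv_smul_smul] at h
      rw [h, hfixM _ (inv_mem hm)])
    let f : ↥(P : Subgroup G) → β := fun y => ⟨(y : G) • c, hmove _ (sylow_le_bigM y.2)⟩
    have hinj : Function.Injective f := by
      intro y z e
      have e' : (y : G) • c = (z : G) • c := congrArg Subtype.val e
      by_contra hne
      obtain ⟨g, hg⟩ := QuotientGroup.mk_surjective c
      have hne' : (z : G)⁻¹ * y ≠ 1 := fun h => hne (Subtype.ext (inv_mul_eq_one.1 h).symm)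
      have h : ((z : G)⁻¹ * y) • (QuotientGroup.mk g : G ⧸ bigM P) = QuotientGroup.mk g := by
        rw [hg, mul_smul, e', inv_smul_smul]
      have hgM : g ∈ bigM P := mem_bigM_of_conj hfix hSE (mul_mem (inv_mem z.2) y.2) hne'
        (H39.se_smul_mk_eq_iff.1 h)
      exact hc (by rw [← hg]; exact QuotientGroup.eq.2 (by simpa using inv_mem hgM))
    have hβ : Nat.card β = Nat.card (P : Subgroup G) := by
      cases nonempty_fintype (G ⧸ bigM P)
      rw [Nat.card_eq_fintype_card, Fintype.card_subtype_compl, Fintype.card_subtype_eq,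
        ← Nat.card_eq_fintype_card, ← index, hidx, Nat.add_sub_cancel]
    have hbij : Function.Bijective f :=
      (Nat.bijective_iff_injective_and_card f).2 ⟨hinj, hβ.symm⟩
    have hn : ∀ y ∈ (P : Subgroup G), ∀ v ∈ bigW P, y * v * y⁻¹ ∈ bigW P := fun y hy v hv =>
      (mem_normalizer_iff.1 (conj_mem_bigW hfix (le_normalizer hy)) v).1 hv
    let Q : Subgroup G :=
      { carrier := {y | y ∈ (P : Subgroup G) ∧ ∃ v ∈ bigW P, y • c = v • c}
        one_mem' := ⟨one_mem _, 1, one_mem _, rfl⟩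
        mul_mem' := by
          rintro y z ⟨hy, v, hv, e⟩ ⟨hz, v', hv', e'⟩
          refine ⟨mul_mem hy hz, y * v' * y⁻¹ * v, mul_mem (hn y hy v' hv') hv, ?_⟩
          rw [mul_smul, e', mul_smul, ← e, ← mul_smul, ← mul_smul]
          congr 1
          group
        inv_mem' := by
          rintro y ⟨hy, v, hv, e⟩
          refine ⟨inv_mem hy, y⁻¹ * v⁻¹ * y⁻¹⁻¹, hn _ (inv_mem hy) _ (inv_mem hv), ?_⟩
          rw [inv_inv, mul_smul, e, ← mul_smul, inv_mul_cancel_right] }
    let g : Q → MulAction.orbit (bigW P) c := fun y =>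
      ⟨(y : G) • c, by obtain ⟨v, hv, e⟩ := y.2.2; exact ⟨⟨v, hv⟩, e.symm⟩⟩
    have hg : Function.Bijective g := by
      constructor
      · intro y z e
        have h := hinj (a₁ := ⟨y, y.2.1⟩) (a₂ := ⟨z, z.2.1⟩)
          (Subtype.ext (congrArg Subtype.val e :))
        exact Subtype.ext (congrArg Subtype.val h :)
      · rintro ⟨d, v, rfl⟩
        obtain ⟨y, hy⟩ := hbij.2 ⟨(v : G) • c, hmove _ (bigW_le_bigM v.2)⟩
        have hy' : (y : G) • c = (v : G) • c := congrArg Subtype.val hy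
        exact ⟨⟨y, y.2, v, v.2, hy'⟩, Subtype.ext hy'⟩
    have h1 : Nat.card (MulAction.orbit (bigW P) c) = Nat.card Q :=
      (Nat.card_congr (Equiv.ofBijective g hg)).symm
    have h2 : Nat.card (MulAction.orbit (bigW P) c) ∣ Nat.card (bigW P) := by
      rw [Nat.card_coe_set_eq, ← MulAction.index_stabilizer]
      exact index_dvd_card _
    obtain ⟨k, hk⟩ := IsPGroup.iff_card.1 (P.isPGroup'.to_le (show Q ≤ (P : Subgroup G) from fun y hy => hy.1))
    have hodd : Odd (2 ^ k) := (closure_spec hfix hrank).1.of_dvd_nat (hk ▸ h1 ▸ h2)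
    have hk0 : k = 0 := by
      by_contra hk0
      exact Nat.not_odd_iff_even.2 (Nat.even_pow.2 ⟨even_two, hk0⟩) hodd
    have hsub : Subsingleton (MulAction.orbit (bigW P) c) := by
      refine Finite.card_le_one_iff_subsingleton.1 ?_
      rw [h1, hk, hk0, pow_zero]
    exact congrArg Subtype.val (@Subsingleton.elim _ hsub ⟨w • c, ⟨⟨w, hw⟩, rfl⟩⟩
      ⟨c, MulAction.mem_orbit_self c⟩)
  set K := (bigM P).normalCore
  haveI : K.Normal := (bigM P).normalCore_normal
  have hWK : bigW P ≤ K := fun w hw g => by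
    have h := hWfix w hw (QuotientGroup.mk g⁻¹)
    have := H39.se_smul_mk_eq_iff.1 h
    rwa [inv_inv] at this
  have hKM : K ≤ bigM P := normalCore_le _
  have hKodd : Odd (Nat.card K) := by
    rw [← Nat.not_even_iff_odd]
    intro hev
    obtain ⟨t, ht⟩ := exists_prime_orderOf_dvd_card' (G := K) 2 (even_iff_two_dvd.1 hev)
    obtain ⟨g, hg⟩ : ∃ g, g ∉ bigM P := by
      by_contra h
      push Not at h
      exact hSE.1 (eq_top_iff.2 fun g _ => h g)
    exact hg (H39.se_mem_of_conj hSE (by rw [orderOf_coe]; exact ht) (hKM t.2)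
      (hKM (‹K.Normal›.conj_mem _ t.2 g)))
  have hKW : K ≤ bigW P := by
    intro k hk
    obtain ⟨w, hw, n, hn, rfl⟩ := (mem_bigM hfix).1 (hKM hk)
    have hnK : n ∈ K := by
      have := mul_mem (inv_mem (hWK hw)) hk
      rwa [inv_mul_cancel_left] at this
    have hnC : n ∈ centralizer ((P : Subgroup G) : Set G) := mem_centralizer_iff.2 fun y hy => by
      have h1 : n * y * n⁻¹ * y⁻¹ ∈ K := by
        rw [show n * y * n⁻¹ * y⁻¹ = n * (y * n⁻¹ * y⁻¹) by group]
        exact mul_mem hnK (‹K.Normal›.conj_mem _ (inv_mem hnK) y)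
      have h2 : n * y * n⁻¹ * y⁻¹ ∈ (P : Subgroup G) :=
        mul_mem ((mem_normalizer_iff.1 hn y).1 hy) (inv_mem hy)
      have h3 := eq_one_of_odd_sylow hKodd h1 h2
      rw [mul_inv_eq_one, mul_inv_eq_iff_eq_mul] at h3
      exact h3.symm
    have hnB := centralizer_sylow_le_bigK hfix hrank hnC
    rw [bigK, ← SetLike.mem_coe, coe_mul_of_right_le_normalizer_left _ _
      (fun y hy => conj_mem_bigW hfix (le_normalizer hy))] at hnB
    obtain ⟨w', hw', y, hy, e⟩ := hnB
    have hyK : y ∈ K := by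
      have := mul_mem (inv_mem (hWK hw')) hnK
      rwa [← e, inv_mul_cancel_left] at this
    have hy1 : y = 1 := eq_one_of_odd_sylow hKodd hyK hy
    rw [← e, hy1]
    simpa using mul_mem hw hw'
  rw [show bigW P = K from le_antisymm hWK hKW]
  infer_instance

include hfix hrank hab hSE in
/-- The principal block has at least as many characters as the Sylow subgroup has elements. -/
theorem card_block_ge (hM : IsPModular 2 M) :
    Nat.card (P : Subgroup G) ≤ Nat.card (principalBlock M G) := by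
  classical
  haveI : Fact (Nat.Prime 2) := ⟨Nat.prime_two⟩
  obtain ⟨a, ha, ha1⟩ := exists_omega_ne_one hrank
  obtain ⟨hqe, hN, hIc, hR2, hRsign⟩ := index_structure hfix hrank hab hSE hM ha ha1
  set e := eInd P with he
  set q := Nat.card (P : Subgroup G) with hq
  set I := indSet P hfix hrank hSE M with hI
  set R := restSet P hfix hrank hSE M a with hR
  have hodd := (closure_spec hfix hrank).1
  haveI : (bigW P).Normal := bigW_normal hfix hrank hSE (by rw [hN, ← hq, hqe])
  cases nonempty_fintype (G ⧸ bigW P)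
  let π : G →* G ⧸ bigW P := QuotientGroup.mk' (bigW P)
  have hπs : Function.Surjective π := QuotientGroup.mk'_surjective _
  have hπ1 : ∀ {x : G}, π x = 1 ↔ x ∈ bigW P := fun {x} => QuotientGroup.eq_one_iff x
  have hπP : ∀ y ∈ (P : Subgroup G), π y = 1 → y = 1 := fun y hy h =>
    eq_one_of_odd_sylow hodd (hπ1.1 h) hy
  -- orders
  have hcard : Nat.card (G ⧸ bigW P) = (e + 2) * (e * q) := by
    have h := index_mul_card (bigM P)
    rw [card_bigM hfix hrank, card_bigK hfix hrank, hN, ← hq,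
      card_eq_card_quotient_mul_card_subgroup (bigW P)] at h
    refine Nat.eq_of_mul_eq_mul_right (Nat.card_pos (α := bigW P)) ?_
    rw [← h]; ring
  have hcent : Nat.card (centralizer ({π a} : Set (G ⧸ bigW P))) = q := by
    let f : ↥(P : Subgroup G) → centralizer ({π a} : Set (G ⧸ bigW P)) := fun y =>
      ⟨π y, mem_centralizer_singleton_iff.2 (by
        rw [← map_mul, ← map_mul, H86.Abelian.mul_comm_sylow P y.2 ha.1])⟩
    refine (Nat.card_congr (Equiv.ofBijective f ⟨fun y z e => ?_, fun x => ?_⟩)).symm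
    · have e' : π y = π z := congrArg Subtype.val e
      refine Subtype.ext (inv_mul_eq_one.1 (hπP _ (mul_mem (inv_mem z.2) y.2) ?_)).symm
      rw [map_mul, map_inv, e', inv_mul_cancel]
    · obtain ⟨g, hg⟩ := hπs x.1
      have hx := mem_centralizer_singleton_iff.1 x.2
      rw [← hg] at hx
      set t := g * a * g⁻¹ with ht
      have hta : π t = π a := by rw [ht, map_mul, map_mul, map_inv, hx, mul_inv_cancel_right]
      have htK : t ∈ bigK P := by
        have hw : t * a⁻¹ ∈ bigW P := hπ1.1 (by rw [map_mul, map_inv, hta, mul_inv_cancel])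
        have := mul_mem (mem_sup_left (T := (P : Subgroup G)) hw) (mem_sup_right ha.1)
        rwa [inv_mul_cancel_right] at this
      obtain ⟨m, hm, hmP⟩ := exists_conj_sylow (H := bigK P) le_sup_right htK (by
        rw [ht, conj_pow, ha.2, mul_one, mul_inv_cancel])
      rw [bigK, ← SetLike.mem_coe, coe_mul_of_right_le_normalizer_left _ _
        (fun y hy => conj_mem_bigW hfix (le_normalizer hy))] at hm
      obtain ⟨w, hw, y, hy, hme⟩ := hm
      have hπm : π m = π y := by rw [← hme, map_mul, hπ1.2 hw, one_mul]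
      have heq : m * t * m⁻¹ = a := by
        refine mul_inv_eq_one.1 (hπP _ (mul_mem hmP.1 (inv_mem ha.1)) ?_)
        rw [map_mul, map_mul, map_mul, map_inv, map_inv, hta, hπm, ← map_mul, ← map_inv, ← map_mul,
          H86.Abelian.mul_comm_sylow P hy ha.1, mul_inv_cancel_right, mul_inv_cancel]
      have hmg : m * g ∈ centralizer ({a} : Set G) := mem_centralizer_singleton_iff.2 (by
        calc m * g * a = (m * t * m⁻¹) * (m * g) := by rw [ht]; group
          _ = _ := by rw [heq])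
      have hK := centralizer_omega_le_bigK hfix hrank ha ha1 hmg
      rw [bigK, ← SetLike.mem_coe, coe_mul_of_right_le_normalizer_left _ _
        (fun y hy => conj_mem_bigW hfix (le_normalizer hy))] at hK
      obtain ⟨w', hw', y', hy', hmge⟩ := hK
      refine ⟨⟨y⁻¹ * y', mul_mem (inv_mem hy) hy'⟩, Subtype.ext ?_⟩
      show π (y⁻¹ * y') = x.1
      have h1 : π (m * g) = π y' := by rw [← hmge, map_mul, hπ1.2 hw', one_mul]
      rw [map_mul, map_inv, ← h1, map_mul, hπm, hg, inv_mul_cancel_left]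
  -- inflation
  let ι : IrrCharacter (G ⧸ bigW P) → IrrCharacter G := fun ψ =>
    ⟨fun g => (ψ : G ⧸ bigW P → ℂ) (π g), IsIrr.comp ψ.2 π hπs⟩
  have hιinj : Function.Injective ι := fun ψ ψ' h => Subtype.ext (funext fun x => by
    obtain ⟨g, rfl⟩ := hπs x
    exact congrFun (congrArg Subtype.val h) g)
  let cq : IrrCharacter (G ⧸ bigW P) → ℤ := fun ψ => cInt (ι ψ) a
  have hcq : ∀ ψ : IrrCharacter (G ⧸ bigW P), (ψ : G ⧸ bigW P → ℂ) (π a) = cq ψ :=
    fun ψ => cInt_spec (ι ψ) ha.2
  have hdegι : ∀ ψ : IrrCharacter (G ⧸ bigW P),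
      charDegree ((ι ψ : IrrCharacter G) : G → ℂ) = charDegree (ψ : G ⧸ bigW P → ℂ) := fun ψ => by
    show ⌊((ψ : G ⧸ bigW P → ℂ) (π 1)).re⌋₊ = _
    rw [map_one]; rfl
  have hιmem : ∀ ψ, cq ψ ≠ 0 → ι ψ ∈ principalBlock M G := by
    intro ψ hψ
    by_contra hnot
    have hn := H86.Abelian.pNilAt_of_mem P hfix ha.1 ha1
    have h := H86.sum_shift_regular hM (H86.Abelian.exists_orderOf P ⟨a, ha.1⟩) hn (ι ψ)
    rw [if_neg hnot, mul_zero] at h
    rw [Finset.sum_congr rfl (g := fun c : centralizer ({a} : Set G) =>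
      if 2 ∣ orderOf c then (0 : ℂ) else (cq ψ : ℂ)) (fun c _ => ?_), Finset.sum_ite,
      Finset.sum_const_zero, zero_add, Finset.sum_const, nsmul_eq_mul, mul_eq_zero] at h
    · refine h.elim (fun h0 => ?_) fun h0 => hψ (by exact_mod_cast h0)
      rw [Nat.cast_eq_zero, Finset.card_eq_zero] at h0
      exact Finset.eq_empty_iff_forall_notMem.1 h0 1
        (Finset.mem_filter.2 ⟨Finset.mem_univ _, by simp⟩)
    · split_ifs with hc
      · rfl
      · have hcW : (c : G) ∈ bigW P := oddAt_le_bigW_omega ha ha1 ((mem_oddAt_iff hn).2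
          ⟨mem_centralizer_singleton_iff.1 c.2, by rw [orderOf_coe, Nat.odd_iff]; omega⟩)
        show (ψ : G ⧸ bigW P → ℂ) (π (a * (c : G))) = _
        rw [map_mul, hπ1.2 hcW, mul_one, hcq]
  set Ψ := Finset.univ.filter fun ψ : IrrCharacter (G ⧸ bigW P) => cq ψ ≠ 0 with hΨ
  set Z := Finset.univ.filter fun ψ : IrrCharacter (G ⧸ bigW P) => ¬ cq ψ ≠ 0 with hZ
  have hcol : ∑ ψ ∈ Ψ, cq ψ ^ 2 = (q : ℤ) := by
    have h := second_orthogonality_self (π a)
    rw [hcent, Finset.sum_congr rfl fun ψ _ => by rw [hcq ψ, map_intCast, ← pow_two],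
      ← Finset.sum_filter_add_sum_filter_not _ (fun ψ => cq ψ ≠ 0), ← hΨ,
      Finset.sum_eq_zero (s := Finset.univ.filter fun ψ => ¬ cq ψ ≠ 0) (fun ψ hψ => by
        rw [not_not.1 (Finset.mem_filter.1 hψ).2]; simp), add_zero] at h
    exact_mod_cast h
  have himg : Ψ.image ι = (b0 G M).filter fun χ => cInt χ a ≠ 0 := by
    refine Finset.eq_of_subset_of_card_le (fun χ hχ => ?_) ?_
    · obtain ⟨ψ, hψ, rfl⟩ := Finset.mem_image.1 hχ
      have hψ' := (Finset.mem_filter.1 hψ).2
      exact Finset.mem_filter.2 ⟨mem_b0.2 (hιmem ψ hψ'), hψ'⟩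
    · by_contra hlt
      have hsub : Ψ.image ι ⊆ (b0 G M).filter fun χ => cInt χ a ≠ 0 := fun χ hχ => by
        obtain ⟨ψ, hψ, rfl⟩ := Finset.mem_image.1 hχ
        have hψ' := (Finset.mem_filter.1 hψ).2
        exact Finset.mem_filter.2 ⟨mem_b0.2 (hιmem ψ hψ'), hψ'⟩
      obtain ⟨χ, hχ, hnotin⟩ := Finset.exists_of_ssubset
        (Finset.ssubset_iff_subset_ne.2 ⟨hsub, fun e => hlt (by rw [e])⟩)
      have h1 := Finset.sum_lt_sum_of_subset (f := fun χ => cInt χ a ^ 2) hsub hχ hnotin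
        (pow_two_pos_of_ne_zero (Finset.mem_filter.1 hχ).2) fun _ _ _ => sq_nonneg _
      rw [Finset.sum_image fun x _ y _ h => hιinj h] at h1
      change ∑ ψ ∈ Ψ, cq ψ ^ 2 < _ at h1
      have h3 : ∑ χ ∈ (b0 G M).filter (fun χ => cInt χ a ≠ 0), cInt χ a ^ 2 = (q : ℤ) := by
        rw [Finset.sum_filter_of_ne (p := fun χ => cInt χ a ≠ 0) (fun χ _ (hne : cInt χ a ^ 2 ≠ 0) (h0 : cInt χ a = 0) =>
          hne (by rw [h0]; rfl))]
        have h := column_sq hfix hM ha.1 ha1
        rw [Finset.sum_congr rfl fun χ _ => by rw [cInt_spec χ ha.2, map_intCast, ← pow_two]] at h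
        exact_mod_cast h
      rw [h3, hcol] at h1
      exact lt_irrefl _ h1
  have hsum : ∀ F : IrrCharacter G → ℤ, ∑ ψ ∈ Ψ, F (ι ψ) =
      F trivialIrr + (∑ χ ∈ I, F χ + ∑ χ ∈ R, F χ) := by
    intro F
    rw [← Finset.sum_image (fun x _ y _ h => hιinj h) (f := F), himg, Finset.sum_filter,
      sum_split hfix hrank hSE hM ha _ fun χ h0 => by simp [h0], if_pos (by
        rw [cInt_trivial a ha.2]; exact one_ne_zero),
      Finset.sum_congr rfl fun χ hχ => if_pos (by
        rw [(indSet_props hfix hrank hSE ha ha1 hχ).1]; exact one_ne_zero),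
      Finset.sum_congr rfl fun χ hχ => if_pos ((mem_restSet hfix hrank hSE).1 hχ).2.1]
  set f : IrrCharacter G → ℤ := fun χ => (charDegree (χ : G → ℂ) : ℤ) with hf
  have htr1 : f trivialIrr = 1 := by
    have h := apply_one_eq_charDegree (trivialIrr : IrrCharacter G)
    have h2 : ((charDegree ((trivialIrr : IrrCharacter G) : G → ℂ) : ℕ) : ℂ) = 1 := h.symm
    simp only [hf]
    exact_mod_cast h2
  have hIf : ∀ χ ∈ I, f χ = (e : ℤ) + 2 := fun χ hχ => by
    simp only [hf, (indSet_props hfix hrank hSE ha ha1 hχ).2, hN]; push_cast; ring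
  have hsq : ∑ ψ ∈ Ψ, f (ι ψ) ^ 2 + ∑ ψ ∈ Z, f (ι ψ) ^ 2 = ((e : ℤ) + 2) * ((e : ℤ) * q) := by
    have h := sum_sq_degree (G := G ⧸ bigW P)
    rw [hcard, Finset.sum_congr rfl fun ψ _ => by rw [apply_one_eq_charDegree]] at h
    rw [hZ, hΨ, Finset.sum_filter_add_sum_filter_not]
    simp only [hf, hdegι]
    exact_mod_cast h
  have hZge : ∀ ψ ∈ Z, (q : ℤ) * f (ι ψ) ≤ f (ι ψ) ^ 2 := by
    intro ψ hψ
    have hψ0 : cq ψ = 0 := not_not.1 (Finset.mem_filter.1 hψ).2
    obtain ⟨m, hm⟩ := sylow_sum (P := P) (χ := ι ψ) (a := 0) fun y hy => by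
      have hΩy : (y : G) ∈ omega P := ⟨y.2, sq_eq_one hfix hrank hab hSE hM y.2⟩
      obtain ⟨n, -, hne⟩ := exists_normalizer_conj hfix hSE ha ha1 hΩy
        fun h => hy (Subtype.ext h)
      rw [← hne, IsIrr.isClassFunction (ι ψ).2, cInt_spec (ι ψ) ha.2]
      exact_mod_cast hψ0
    rw [mul_zero, add_zero] at hm
    have hpos : 0 < f (ι ψ) := by simp only [hf]; exact_mod_cast charDegree_pos (ι ψ)
    have hqle : (q : ℤ) ≤ f (ι ψ) := by
      have hfm : f (ι ψ) = (q : ℤ) * m := hm
      rw [hfm] at hpos ⊢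
      rcases Nat.eq_zero_or_pos m with h0 | h0
      · simp [h0] at hpos
      · nlinarith
    nlinarith
  -- squares in the quotient
  have hcount : 1 + ((e : ℤ) + 2) * e ≤ ∑ ψ : IrrCharacter (G ⧸ bigW P), f (ι ψ) := by
    have hroots : 1 + (e + 2) * e ≤ Nat.card {s : G ⧸ bigW P // s * s = 1} := by
      have hidx : (centralizer ({π a} : Set (G ⧸ bigW P))).index = (e + 2) * e := by
        refine Nat.eq_of_mul_eq_mul_right (Nat.card_pos (α := (P : Subgroup G))) ?_
        rw [← hq]
        nth_rewrite 1 [← hcent]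
        rw [index_mul_card, hcard]; ring
      rw [← hidx, ← CharBasic.card_conjugates_eq_index,
        show 1 + Nat.card {x : G ⧸ bigW P // IsConj (π a) x} =
          Nat.card (Option {x : G ⧸ bigW P // IsConj (π a) x}) by rw [Finite.card_option, add_comm]]
      have hsqx : ∀ x : {x : G ⧸ bigW P // IsConj (π a) x}, x.1 * x.1 = 1 ∧ x.1 ≠ 1 := fun x => by
        obtain ⟨g, hg⟩ := isConj_iff.1 x.2
        rw [← hg]
        refine ⟨?_, fun h => ha1 (hπP a ha.1 (conj_eq_one_iff.1 h))⟩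
        rw [← pow_two, conj_pow, ← map_pow, ha.2, map_one, mul_one, mul_inv_cancel]
      let g : Option {x : G ⧸ bigW P // IsConj (π a) x} → {s : G ⧸ bigW P // s * s = 1} := fun o =>
        o.elim ⟨1, one_mul 1⟩ fun x => ⟨x.1, (hsqx x).1⟩
      refine Nat.card_le_card_of_injective g fun o o' h => ?_
      match o, o' with
      | none, none => rfl
      | none, some x => exact absurd (congrArg Subtype.val h).symm (hsqx x).2
      | some x, none => exact absurd (congrArg Subtype.val h) (hsqx x).2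
      | some x, some y => exact congrArg some (Subtype.ext (congrArg Subtype.val h :))
    have h := H24.FS.card_sqrt (1 : G ⧸ bigW P)
    have hn := congrArg norm h
    rw [Complex.norm_natCast] at hn
    have hb : (Nat.card {s : G ⧸ bigW P // s * s = 1} : ℝ) ≤
        ∑ ψ : IrrCharacter (G ⧸ bigW P), (charDegree (ψ : G ⧸ bigW P → ℂ) : ℝ) := by
      rw [hn]
      refine (norm_sum_le _ _).trans (Finset.sum_le_sum fun ψ _ => ?_)
      rw [norm_mul, Complex.norm_conj, apply_one_eq_charDegree, Complex.norm_natCast]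
      exact mul_le_of_le_one_left (Nat.cast_nonneg _) (H24.FS.norm_ind_le ψ.2)
    have hb2 : (Nat.card {s : G ⧸ bigW P // s * s = 1} : ℤ) ≤
        ∑ ψ : IrrCharacter (G ⧸ bigW P), (charDegree (ψ : G ⧸ bigW P → ℂ) : ℤ) := by
      exact_mod_cast hb
    simp only [hf, hdegι]
    refine le_trans ?_ hb2
    exact_mod_cast hroots
  rw [← Finset.sum_filter_add_sum_filter_not _ (fun ψ => cq ψ ≠ 0), ← hΨ, ← hZ] at hcount
  rw [hsum (fun χ => f χ ^ 2), htr1, Finset.sum_congr rfl (g := fun _ => ((e : ℤ) + 2) ^ 2)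
    (fun χ hχ => by rw [hIf χ hχ]), Finset.sum_const, nsmul_eq_mul,
    Finset.sum_congr rfl (g := fun χ => (e : ℤ) ^ 2 * cInt χ a ^ 2) (fun χ hχ => by
      simp only [hf, (hRsign χ hχ).2]; ring), ← Finset.mul_sum] at hsq
  rw [hsum f, htr1, Finset.sum_congr rfl (g := fun _ => (e : ℤ) + 2) hIf, Finset.sum_const,
    nsmul_eq_mul, Finset.sum_congr rfl (g := fun χ => (e : ℤ) * -cInt χ a) (fun χ hχ => by
      simp only [hf, (hRsign χ hχ).2]; ring), ← Finset.mul_sum] at hcount
  have hqZ : (q : ℤ) = (e : ℤ) + 1 := by exact_mod_cast hqe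
  set i : ℤ := (I.card : ℤ) with hi
  have hIc' : 2 * i + 1 = (e : ℤ) := by rw [hi]; exact_mod_cast hIc
  have hR2' : 2 * ∑ χ ∈ R, cInt χ a ^ 2 = (e : ℤ) + 1 := by linarith
  have hZs : (q : ℤ) * ∑ ψ ∈ Z, f (ι ψ) ≤ ∑ ψ ∈ Z, f (ι ψ) ^ 2 := by
    rw [Finset.mul_sum]; exact Finset.sum_le_sum hZge
  have hZ2 : ∑ ψ ∈ Z, f (ι ψ) ^ 2 = (q : ℤ) * q := by
    rw [hqZ] at hsq ⊢
    refine mul_left_cancel₀ (two_ne_zero (α := ℤ)) ?_
    linear_combination 2 * hsq - ((e : ℤ) + 2) ^ 2 * hIc' - (e : ℤ) ^ 2 * hR2'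
  have hZf : ∑ ψ ∈ Z, f (ι ψ) ≤ q := by
    refine le_of_mul_le_mul_left (hZs.trans_eq hZ2) ?_
    rw [hqZ]; positivity
  have hR1 : ∑ χ ∈ R, cInt χ a ^ 2 ≤ ∑ χ ∈ R, -cInt χ a := by
    have he0 : (0 : ℤ) < e := by exact_mod_cast eInd_pos
    refine le_of_mul_le_mul_left ?_ he0
    nlinarith
  have hRone : ∀ χ ∈ R, cInt χ a ^ 2 = 1 := by
    have hle : ∀ χ ∈ R, -cInt χ a ≤ cInt χ a ^ 2 := fun χ hχ => by
      have := (hRsign χ hχ).1
      nlinarith
    intro χ hχ
    have h := (Finset.sum_eq_sum_iff_of_le hle).1 (le_antisymm (Finset.sum_le_sum hle) hR1) χ hχ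
    have h' := (hRsign χ hχ).1
    have : cInt χ a * (cInt χ a + 1) = 0 := by linarith
    rcases mul_eq_zero.1 this with h2 | h2
    · omega
    · rw [show cInt χ a = -1 by omega]; norm_num
  rw [Finset.sum_congr rfl hRone, Finset.sum_const, nsmul_one] at hR2
  have hcard0 : Nat.card (principalBlock M G) = (b0 G M).card := by
    rw [Nat.card_eq_fintype_card, ← Set.toFinset_card]
    congr 1
    ext χ; simp [mem_b0]
  have h1 : (1 : ℤ) + ((I.card : ℤ) + (R.card : ℤ)) ≤ ((b0 G M).card : ℤ) := by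
    have hd : Disjoint I R := Finset.disjoint_left.2 fun χ hχ hχ' =>
      ((mem_restSet hfix hrank hSE).1 hχ').2.2.2 ((mem_indSet hfix hrank hSE).1 hχ).2
    have hnot : (trivialIrr : IrrCharacter G) ∉ I ∪ R := fun h => by
      rcases Finset.mem_union.1 h with h | h
      · exact trivial_not_mem_range hfix hrank hSE ((mem_indSet hfix hrank hSE).1 h).2
      · exact ((mem_restSet hfix hrank hSE).1 h).2.2.1 rfl
    have hsub : insert (trivialIrr : IrrCharacter G) (I ∪ R) ⊆ b0 G M := by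
      intro χ hχ
      rcases Finset.mem_insert.1 hχ with rfl | h
      · exact mem_b0.2 (sameBlock_refl hM _)
      rcases Finset.mem_union.1 h with h | h
      · exact mem_b0.2 ((mem_indSet hfix hrank hSE).1 h).1
      · exact mem_b0.2 ((mem_restSet hfix hrank hSE).1 h).1
    have h := Finset.card_le_card hsub
    rw [Finset.card_insert_of_notMem hnot, Finset.card_union_of_disjoint hd] at h
    omega
  rw [hcard0]
  omega

end Cfsg.Agent.H29.AbTwo
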