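import Cfsg.Agent.H86.SectionFun
import Cfsg.Agent.H83.ClassConst

/-!
# Class multiplication into a section of the principal block
-/

set_option autoImplicit false
set_option linter.unusedSectionVars false
set_option linter.style.haveILetI false

open scoped ComplexConjugate

namespace Cfsg.Agent.H29.AbTwo

open CharBasic BlockBasic

universe u

variable {G : Type u} [Group G] [Fintype G] {p : ℕ} [Fact p.Prime] {M : Ideal AlgInt}

/-- The pairs of conjugates of `s` and `t` with product in the section of `x`. -/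
noncomputable def npairs (p : ℕ) (s t x : G) : ℕ :=
  Nat.card (Σ c : {c : Subgroup.centralizer ({x} : Set G) // ¬ p ∣ orderOf c},
    {u : G // IsConj s u ∧ IsConj t (u⁻¹ * (x * (c.1 : G)))})

open scoped Classical in
theorem card_mul_npairs (hM : IsPModular p M) {x : G} (hx : ∃ k, orderOf x = p ^ k)
    (hn : H86.PNilAt p x) (s t : G) :
    (Nat.card G : ℂ) * (npairs p s t x : ℂ) =
      ((Subgroup.centralizer ({s} : Set G)).index : ℂ) *
        ((Subgroup.centralizer ({t} : Set G)).index : ℂ) *
        (Nat.card (pPrimeCore p (Subgroup.centralizer ({x} : Set G))) : ℂ) *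
        ∑ χ : IrrCharacter G, if χ ∈ principalBlock M G then
          conj ((χ : G → ℂ) s) * conj ((χ : G → ℂ) t) * (χ : G → ℂ) x / (χ : G → ℂ) 1 else 0 := by
  haveI : Fintype (Subgroup.centralizer ({x} : Set G)) := Fintype.ofFinite _
  set C := Subgroup.centralizer ({x} : Set G)
  have h1 : (npairs p s t x : ℂ) = ∑ c : C, if p ∣ orderOf c then (0 : ℂ) else
      (Nat.card {u : G // IsConj s u ∧ IsConj t (u⁻¹ * (x * (c : G)))} : ℂ) := by
    rw [npairs, Nat.card_sigma, Nat.cast_sum, Finset.sum_ite, Finset.sum_const_zero, zero_add]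
    refine Finset.sum_bij' (fun c _ => c.1) (fun c hc => ⟨c, (Finset.mem_filter.1 hc).2⟩)
      (fun c _ => Finset.mem_filter.2 ⟨Finset.mem_univ _, c.2⟩) (fun c _ => Finset.mem_univ _)
      (fun c _ => rfl) (fun c _ => rfl) (fun c _ => rfl)
  rw [h1, Finset.mul_sum]
  rw [Finset.sum_congr rfl (g := fun c : C => ∑ χ : IrrCharacter G,
    ((Subgroup.centralizer ({s} : Set G)).index : ℂ) *
      ((Subgroup.centralizer ({t} : Set G)).index : ℂ) *
      (conj ((χ : G → ℂ) s) * conj ((χ : G → ℂ) t) / (χ : G → ℂ) 1 *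
        if p ∣ orderOf c then 0 else (χ : G → ℂ) (x * (c : G)))) fun c _ => ?_]
  · rw [Finset.sum_comm, Finset.mul_sum]
    refine Finset.sum_congr rfl fun χ _ => ?_
    rw [← Finset.mul_sum, ← Finset.mul_sum, H86.sum_shift_regular hM hx hn χ]
    split_ifs <;> ring
  · by_cases hc : p ∣ orderOf c
    · simp [hc]
    · simp only [if_neg hc]
      rw [H83.card_pairs_mul_card, Finset.mul_sum]
      exact Finset.sum_congr rfl fun χ _ => by ring

end Cfsg.Agent.H29.AbTwo
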