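import Cfsg.Agent.H29.AbTwo.Induced
import Cfsg.Agent.H86.AbelianExceptional

/-!
# The strongly embedded alternative has elementary abelian Sylow subgroups
-/

set_option autoImplicit false
set_option linter.unusedSectionVars false
set_option linter.style.haveILetI false
set_option maxHeartbeats 1000000

open scoped ComplexConjugate

namespace Cfsg.Agent.H29.AbTwo

open Subgroup CharInduce CharBasic BlockBasic

universe u

variable {G : Type u} [Group G] [Fintype G] {M : Ideal AlgInt}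
variable {P : Sylow 2 G} [IsMulCommutative (P : Subgroup G)]

/-- The degree against a value constant on the nontrivial elements of the Sylow subgroup. -/
theorem sylow_sum {χ : IrrCharacter G} {a : ℤ}
    (h : ∀ y : (P : Subgroup G), y ≠ 1 → (χ : G → ℂ) y = a) :
    ∃ m : ℕ, (charDegree (χ : G → ℂ) : ℤ) + ((Nat.card (P : Subgroup G) : ℤ) - 1) * a =
      Nat.card (P : Subgroup G) * m := by
  classical
  obtain ⟨m, hm⟩ := H83.sum_subgroup_eq (IsIrr.isCharacter χ.2) (P : Subgroup G)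
  rw [← Finset.add_sum_erase _ _ (Finset.mem_univ (1 : (P : Subgroup G))), OneMemClass.coe_one,
    apply_one_eq_charDegree, Finset.sum_congr rfl (g := fun _ => (a : ℂ)) fun y hy =>
      h y (Finset.ne_of_mem_erase hy), Finset.sum_const, Finset.card_erase_of_mem (Finset.mem_univ _),
    Finset.card_univ, ← Nat.card_eq_fintype_card, nsmul_eq_mul,
    Nat.cast_sub Nat.card_pos] at hm
  refine ⟨m, ?_⟩
  exact_mod_cast hm

theorem neg_degree_le {χ : IrrCharacter G} {a : ℤ}
    (h : ∀ y : (P : Subgroup G), y ≠ 1 → (χ : G → ℂ) y = a) :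
    -(((Nat.card (P : Subgroup G) : ℤ) - 1) * a) ≤ charDegree (χ : G → ℂ) := by
  obtain ⟨m, hm⟩ := sylow_sum h
  nlinarith [Nat.zero_le m, Nat.zero_le (Nat.card (P : Subgroup G))]

theorem abs_le_degree {χ : IrrCharacter G} {a : ℤ} {g : G} (h : (χ : G → ℂ) g = a) :
    |a| ≤ charDegree (χ : G → ℂ) := by
  have hle := IsChar.norm_le (IsIrr.isCharacter χ.2) g
  rw [h, apply_one_eq_charDegree, Complex.norm_intCast, Complex.norm_natCast] at hle
  exact_mod_cast hle

/-- A nonexceptional term. -/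
theorem cube_div_ge {q f : ℝ} {a : ℝ} (hq : 1 < q) (hf : 0 < f) (hneg : -((q - 1) * a) ≤ f) :
    -(a ^ 2 / (q - 1)) ≤ a ^ 3 / f := by
  rw [neg_le_iff_add_nonneg', div_add_div _ _ (by linarith) hf.ne']
  refine div_nonneg ?_ (mul_nonneg (by linarith) hf.le)
  nlinarith [sq_nonneg a, mul_le_mul_of_nonneg_left hneg (sq_nonneg a)]

variable (hfix : H86.Abelian.FreeFusion P) (hrank : 8 ≤ Nat.card (omega P))
variable (hab : ∀ g ∈ normalizer ((P : Subgroup G) : Set G),
  ∀ h ∈ normalizer ((P : Subgroup G) : Set G),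
    g * h * g⁻¹ * h⁻¹ ∈ centralizer ((P : Subgroup G) : Set G))
variable (hSE : IsStronglyEmbedded (bigM P))

include hfix in
/-- No two conjugate involutions multiply to a regular translate of an element of larger order. -/
theorem npairs_eq_zero {a v : G} (ha : a ^ 2 = 1) (hv : v ∈ (P : Subgroup G)) (hv2 : v ^ 2 ≠ 1) :
    npairs 2 a a v = 0 := by
  classical
  haveI : Fact (Nat.Prime 2) := ⟨Nat.prime_two⟩
  rw [npairs, Nat.card_eq_zero]
  left
  refine isEmpty_sigma.2 fun c => ⟨fun ⟨u, hu, hu'⟩ => hv2 ?_⟩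
  obtain ⟨k, hk⟩ := H86.Abelian.exists_orderOf P ⟨v, hv⟩
  have sq : ∀ {w : G}, IsConj a w → w * w = 1 := fun {w} hw => by
    obtain ⟨g, rfl⟩ := isConj_iff.1 hw
    rw [← pow_two, conj_pow, ha, mul_one, mul_inv_cancel]
  have huu := sq hu
  have hww := sq hu'
  have huinv : u⁻¹ = u := inv_eq_of_mul_eq_one_right huu
  set w := v * (c.1 : G) with hw
  have hinv : u * w * u⁻¹ = w⁻¹ := by
    rw [huinv] at hww ⊢
    exact eq_inv_of_mul_eq_one_left (by rw [← hww]; group)
  have hc : ¬ 2 ∣ orderOf (c.1 : G) := by rw [orderOf_coe]; exact c.2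
  have hco : (2 ^ k).Coprime (orderOf (c.1 : G)) :=
    Nat.Coprime.pow_left k (Nat.prime_two.coprime_iff_not_dvd.2 hc)
  set n := Nat.chineseRemainder hco 1 0
  have hcomm : Commute v (c.1 : G) := (mem_centralizer_singleton_iff.1 c.1.2).symm
  have hp : w ^ (n : ℕ) = v := by
    rw [hw, hcomm.mul_pow]
    have h1 : v ^ (n : ℕ) = v := by
      conv_rhs => rw [← pow_one v]
      exact pow_eq_pow_iff_modEq.2 (by rw [show orderOf v = 2 ^ k from hk]; exact n.2.1)
    have h2 : (c.1 : G) ^ (n : ℕ) = 1 :=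
      orderOf_dvd_iff_pow_eq_one.1 (Nat.modEq_zero_iff_dvd.1 n.2.2)
    rw [h1, h2, mul_one]
  refine sq_eq_one_of_inverted P ⟨k, hk⟩ (by rw [pow_two]; exact huu) ?_
  rw [← hp, ← conj_pow, hinv, inv_pow]

include hfix in
/-- The class equation at an element of larger order. -/
theorem sum_vanish (hM : IsPModular 2 M) {a v : G} (ha : a ^ 2 = 1) (hv : v ∈ (P : Subgroup G))
    (hv2 : v ^ 2 ≠ 1) :
    ∑ χ ∈ b0 G M, conj ((χ : G → ℂ) a) * conj ((χ : G → ℂ) a) * (χ : G → ℂ) v /
      (χ : G → ℂ) 1 = 0 := by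
  classical
  haveI : Fact (Nat.Prime 2) := ⟨Nat.prime_two⟩
  have h := card_mul_npairs hM (H86.Abelian.exists_orderOf P ⟨v, hv⟩)
    (H86.Abelian.pNilAt_of_mem P hfix hv (fun e => hv2 (by have e' : v = 1 := e; rw [e', one_pow]))) a a
  rw [npairs_eq_zero hfix ha hv hv2, Nat.cast_zero, mul_zero, eq_comm, mul_eq_zero] at h
  rw [b0, Finset.sum_filter]
  exact h.resolve_left (by
    simp only [ne_eq, mul_eq_zero, Nat.cast_eq_zero, not_or]
    exact ⟨⟨index_ne_zero_of_finite, index_ne_zero_of_finite⟩, Nat.card_pos.ne'⟩)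

include hfix hSE in
/-- A Sylow subgroup of exponent at least four is large. -/
theorem card_sq_le {v : G} (hv : v ∈ (P : Subgroup G)) (hv2 : v ^ 2 ≠ 1) :
    Nat.card (omega P) ^ 2 ≤ Nat.card (P : Subgroup G) := by
  classical
  haveI : Fact (Nat.Prime 2) := ⟨Nat.prime_two⟩
  let f : (P : Subgroup G) →* (P : Subgroup G) :=
    { toFun := fun x => x ^ 2
      map_one' := one_pow 2
      map_mul' := fun x y => (show Commute x y from
        Subtype.ext (H86.Abelian.mul_comm_sylow P x.2 y.2)).mul_pow 2 }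
  have hker : Nat.card f.ker = Nat.card (omega P) := Nat.card_congr
    { toFun := fun x => ⟨x.1, x.1.2, congrArg Subtype.val x.2⟩
      invFun := fun x => ⟨⟨x.1, x.2.1⟩, Subtype.ext x.2.2⟩
      left_inv := fun x => rfl
      right_inv := fun x => rfl }
  have hrange : Nat.card (omega P) ≤ Nat.card f.range := by
    let v' : (P : Subgroup G) := ⟨v, hv⟩
    obtain ⟨j, hj, hj1⟩ := exists_pow_omega (pow_mem hv 2) hv2
    have hmem : ∀ x ∈ omega P, ∃ y : (P : Subgroup G), (y : G) ^ 2 = x := by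
      intro x hx
      by_cases hx1 : x = 1
      · exact ⟨1, by rw [hx1]; simp⟩
      obtain ⟨n, hn, hne⟩ := exists_normalizer_conj hfix hSE hj hj1 hx hx1
      refine ⟨⟨n * v ^ j * n⁻¹, (mem_normalizer_iff.1 hn _).1 (pow_mem hv j)⟩, ?_⟩
      show (n * v ^ j * n⁻¹) ^ 2 = x
      rw [conj_pow, ← pow_mul, mul_comm j, pow_mul, hne]
    let g : omega P → f.range := fun x =>
      ⟨f (hmem x.1 x.2).choose, ⟨_, rfl⟩⟩
    refine Nat.card_le_card_of_injective g fun x y e => Subtype.ext ?_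
    have e' := congrArg (fun z : f.range => ((z : (P : Subgroup G)) : G)) e
    show (x : G) = y
    rw [← (hmem x.1 x.2).choose_spec, ← (hmem y.1 y.2).choose_spec]
    exact e'
  have h := f.ker.card_mul_index
  rw [index_ker, hker] at h
  rw [← h, pow_two]
  exact Nat.mul_le_mul_left _ hrange

include hfix hrank hab hSE in
/-- The Sylow subgroup is elementary abelian. -/
theorem sq_eq_one (hM : IsPModular 2 M) {v : G} (hv : v ∈ (P : Subgroup G)) : v ^ 2 = 1 := by
  classical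
  by_contra hv2
  haveI : Fact (Nat.Prime 2) := ⟨Nat.prime_two⟩
  obtain ⟨a, ha, ha1⟩ := exists_omega_ne_one hrank
  set e := eInd P with he
  set q := Nat.card (P : Subgroup G) with hq
  have heO : e + 1 = Nat.card (omega P) := eInd_eq hfix hSE ha ha1
  have hsq : (e + 1) ^ 2 ≤ q := heO ▸ card_sq_le hfix hSE hv hv2
  have hlt : e + 1 < q := by nlinarith
  obtain ⟨Y, ζ, δ, d, c, hδ, hYmem, htrY, hctr, hζmem, hζsurj, hζeq, hYcard, hζval, hX, hsum, hreg, -⟩ :=
    H86.Abelian.exists_exceptional (p := 2) P hM hfix hlt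
  change Y.card * e + 1 = q at hYcard
  change _ = ((e : ℕ) : ℤ) + 1 at hsum
  set X := (b0 G M).filter fun χ => χ ∉ Y with hXdef
  have hmX : ∀ {χ}, χ ∈ X ↔ χ ∈ principalBlock M G ∧ χ ∉ Y := fun {χ} => by simp [X, mem_b0]
  have hsumX : (∑ χ : IrrCharacter G, if χ ∈ principalBlock M G ∧ χ ∉ Y then c χ ^ 2 else 0) =
      ∑ χ ∈ X, c χ ^ 2 := by
    rw [← Finset.sum_filter]
    exact Finset.sum_congr (by ext χ; simp [hmX]) fun _ _ => rfl
  rw [hsumX] at hsum
  have htr : trivialIrr ∈ X := hmX.2 ⟨sameBlock_refl hM _, htrY⟩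
  have hd : d = 0 := by
    by_contra hd
    have h1 : 1 ≤ ∑ χ ∈ X, c χ ^ 2 := le_trans (by rw [hctr]; norm_num)
      (Finset.single_le_sum (fun χ _ => sq_nonneg (c χ)) htr)
    have hY : (e : ℤ) + 2 ≤ Y.card := by
      by_contra hlt'
      have : Y.card ≤ e + 1 := by omega
      have := Nat.mul_le_mul_right e this
      nlinarith
    have hd2 : 1 ≤ d ^ 2 := Int.add_one_le_iff.2 (pow_two_pos_of_ne_zero hd)
    nlinarith [sq_nonneg (d - δ)]
  subst hd
  have hδ2 : δ ^ 2 = 1 := by rcases hδ with rfl | rfl <;> norm_num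
  have hXsq : ∑ χ ∈ X, c χ ^ 2 = e := by linear_combination hsum - hδ2
  -- linear characters of the Sylow subgroup
  let O : Finset (P : Subgroup G) := Finset.univ.filter fun y => (y : G) ^ 2 = 1
  let V : Finset (P : Subgroup G) := Finset.univ.filter fun y => ¬ (y : G) ^ 2 = 1
  have hOcard : O.card = Nat.card (omega P) := by
    rw [← Fintype.card_coe, ← Nat.card_eq_fintype_card]
    exact Nat.card_congr
      { toFun := fun y => ⟨(y.1 : G), y.1.2, (Finset.mem_filter.1 y.2).2⟩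
        invFun := fun y => ⟨⟨y.1, y.2.1⟩, Finset.mem_filter.2 ⟨Finset.mem_univ _, y.2.2⟩⟩
        left_inv := fun y => rfl
        right_inv := fun y => rfl }
  have hVcard : (V.card : ℂ) = (q : ℂ) - (Nat.card (omega P) : ℂ) := by
    have := Finset.card_filter_add_card_filter_not (s := (Finset.univ : Finset (P : Subgroup G)))
      (fun y => (y : G) ^ 2 = 1)
    rw [Finset.card_univ, ← Nat.card_eq_fintype_card, ← hq] at this
    change O.card + V.card = q at this
    rw [eq_sub_iff_add_eq, ← hOcard]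
    exact_mod_cast (by omega : V.card + O.card = q)
  have hV1 : ∀ y ∈ V, y ≠ 1 := fun y hy h => (Finset.mem_filter.1 hy).2 (by simp [h])
  let B : Finset (IrrCharacter (P : Subgroup G)) :=
    Finset.univ.filter fun b => ∀ y ∈ O, (b : ↥(P : Subgroup G) → ℂ) y = 1
  have hOsum : ∀ b : IrrCharacter (P : Subgroup G),
      ∑ y ∈ O, (b : ↥(P : Subgroup G) → ℂ) y = if b ∈ B then (Nat.card (omega P) : ℂ) else 0 := by
    intro b
    split_ifs with hb
    · rw [Finset.sum_congr rfl fun y hy => (Finset.mem_filter.1 hb).2 y hy, Finset.sum_const,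
        nsmul_one, hOcard]
    · obtain ⟨y0, hy0, hy01⟩ : ∃ y0 ∈ O, (b : ↥(P : Subgroup G) → ℂ) y0 ≠ 1 := by
        by_contra h
        push Not at h
        exact hb (Finset.mem_filter.2 ⟨Finset.mem_univ _, h⟩)
      have hy0' := (Finset.mem_filter.1 hy0).2
      have hcomm : ∀ y : (P : Subgroup G), ((y0 : G) * y) ^ 2 = (y : G) ^ 2 := fun y => by
        rw [(show Commute (y0 : G) y from H86.Abelian.mul_comm_sylow P y0.2 y.2).mul_pow, hy0',
          one_mul]
      have hs : ∑ y ∈ O, (b : ↥(P : Subgroup G) → ℂ) (y0 * y) =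
          ∑ y ∈ O, (b : ↥(P : Subgroup G) → ℂ) y :=
        Finset.sum_equiv (Equiv.mulLeft y0) (fun y => by simp [O, hcomm]) fun y _ => rfl
      rw [Finset.sum_congr rfl fun y _ => H86.Abelian.lin_mul P b y0 y, ← Finset.mul_sum] at hs
      exact (mul_left_eq_self₀.1 hs).resolve_left hy01
  have hBcard : B.card * Nat.card (omega P) = q := by
    have h1 : ∑ b : IrrCharacter (P : Subgroup G), ∑ y ∈ O, (b : ↥(P : Subgroup G) → ℂ) y =
        (B.card * Nat.card (omega P) : ℕ) := by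
      rw [Finset.sum_congr rfl fun b _ => hOsum b, Finset.sum_ite_mem, Finset.univ_inter,
        Finset.sum_const, nsmul_eq_mul, Nat.cast_mul]
    have h2 := sum_degree_mul_apply (G := (P : Subgroup G)) (1 : (P : Subgroup G))
    simp only [H86.Abelian.lin, one_mul, if_pos rfl] at h2
    rw [Finset.sum_comm, ← Finset.add_sum_erase _ _ (a := (1 : (P : Subgroup G)))
        (Finset.mem_filter.2 ⟨Finset.mem_univ _, by simp⟩),
      Finset.sum_eq_zero (s := O.erase 1) (fun y hy => H86.Abelian.sum_irr_apply P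
        (Finset.ne_of_mem_erase hy)), add_zero] at h1
    simp only [H86.Abelian.lin] at h1
    rw [h2] at h1
    exact_mod_cast h1.symm
  -- the orbit sums
  let S : IrrCharacter (P : Subgroup G) → ↥(P : Subgroup G) → ℂ := fun b y =>
    ∑ b' ∈ H86.Abelian.orb P b, (b' : ↥(P : Subgroup G) → ℂ) y
  have hval : ∀ b, b ≠ H86.Abelian.triv P → ∀ y : (P : Subgroup G), y ≠ 1 →
      (ζ b : G → ℂ) y = δ * S b y := fun b hb y hy => by
    rw [hζval b hb y hy]; simp [S]
  have horbB : ∀ b, ∀ b' ∈ H86.Abelian.orb P b, (b' ∈ B ↔ b ∈ B) := by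
    intro b b' hb'
    obtain ⟨n, rfl⟩ := (H86.Abelian.mem_orb P).1 hb'
    have hact : ∀ y, y ∈ O ↔ H86.Abelian.act P n y ∈ O := fun y => by
      simp only [O, Finset.mem_filter, Finset.mem_univ, true_and, H86.Abelian.act_coe, conj_pow,
        conj_eq_one_iff]
    simp only [B, Finset.mem_filter, Finset.mem_univ, true_and, H86.Abelian.actIrr_apply]
    constructor
    · intro h y hy
      obtain ⟨z, rfl⟩ := (H86.Abelian.act P n).surjective y
      exact h z ((hact z).2 hy)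
    · exact fun h y hy => h _ ((hact y).1 hy)
  have hSsum : ∀ b, b ≠ H86.Abelian.triv P →
      ∑ y : (P : Subgroup G), S b y = 0 := fun b hb => by
    rw [Finset.sum_comm]
    refine Finset.sum_eq_zero fun b' hb' => H85.sum_apply_eq_zero b' fun h => ?_
    obtain ⟨n, rfl⟩ := (H86.Abelian.mem_orb P).1 hb'
    exact H86.Abelian.actIrr_ne_triv P hb n (Subtype.ext h)
  have hS1 : ∀ b, b ≠ H86.Abelian.triv P → S b 1 = e := fun b hb => by
    simp only [S, H86.Abelian.lin, Finset.sum_const, nsmul_one, H86.Abelian.card_orb P hfix hb]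
    rfl
  have hSV : ∀ b, b ≠ H86.Abelian.triv P →
      ∑ y ∈ V, S b y = if b ∈ B then -((e : ℂ) * Nat.card (omega P)) else 0 := by
    intro b hb
    have h1 := Finset.sum_filter_add_sum_filter_not Finset.univ
      (fun y : (P : Subgroup G) => (y : G) ^ 2 = 1) (S b)
    rw [hSsum b hb, add_eq_zero_iff_eq_neg'] at h1
    change ∑ y ∈ V, S b y = -∑ y ∈ O, S b y at h1
    rw [h1, Finset.sum_comm, Finset.sum_congr rfl fun b' hb' => (hOsum b').trans
      (if_congr (horbB b b' hb') rfl rfl), Finset.sum_const, H86.Abelian.card_orb P hfix hb,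
      nsmul_eq_mul]
    change -((e : ℂ) * _) = _
    split_ifs <;> simp
  have hSa : ∀ b, b ≠ H86.Abelian.triv P → b ∈ B → S b ⟨a, ha.1⟩ = e := fun b hb hbB => by
    simp only [S]
    rw [Finset.sum_congr rfl fun b' hb' => (Finset.mem_filter.1 ((horbB b b' hb').2 hbB)).2
      ⟨a, ha.1⟩ (Finset.mem_filter.2 ⟨Finset.mem_univ _, ha.2⟩), Finset.sum_const, nsmul_one,
      H86.Abelian.card_orb P hfix hb]
    rfl
  -- the common degree
  obtain ⟨b₀, hb₀⟩ : ∃ b : IrrCharacter (P : Subgroup G), b ≠ H86.Abelian.triv P := by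
    obtain ⟨θ, hθ⟩ : Y.Nonempty := Finset.card_pos.1 (by
      by_contra h0
      rw [show Y.card = 0 by omega] at hYcard
      omega)
    obtain ⟨b, hb, -⟩ := hζsurj θ hθ
    exact ⟨b, hb⟩
  set D := charDegree (ζ b₀ : G → ℂ) with hD
  have hdeg : ∀ θ ∈ Y, (θ : G → ℂ) 1 = (D : ℂ) := fun θ hθ => by
    rw [hD, ← apply_one_eq_charDegree]
    exact hreg θ hθ _ (hζmem b₀ hb₀) 1 (by rw [orderOf_one]; norm_num)
  have hD0 : (D : ℂ) ≠ 0 := Nat.cast_ne_zero.2 (charDegree_pos _).ne'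
  obtain ⟨mD, hmD⟩ : ∃ m : ℕ, (D : ℤ) - δ * e = q * m := by
    obtain ⟨m, hm⟩ := H83.sum_subgroup_eq (IsIrr.isCharacter (ζ b₀).2) (P : Subgroup G)
    refine ⟨m, ?_⟩
    rw [← Finset.add_sum_erase _ _ (Finset.mem_univ (1 : (P : Subgroup G))), OneMemClass.coe_one,
      hdeg _ (hζmem b₀ hb₀), Finset.sum_congr rfl fun y hy => hval b₀ hb₀ y (Finset.ne_of_mem_erase hy),
      ← Finset.mul_sum, Finset.sum_erase_eq_sub (Finset.mem_univ _), hSsum b₀ hb₀, hS1 b₀ hb₀] at hm
    rw [zero_sub, mul_neg, ← sub_eq_add_neg, ← hq] at hm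
    exact_mod_cast hm
  -- the exceptional part
  have hcconj : ∀ χ ∈ X, conj ((χ : G → ℂ) a) = c χ := fun χ hχ => by
    rw [(hX χ (hmX.1 hχ).1 (hmX.1 hχ).2).2 ⟨a, ha.1⟩ fun h => ha1 (congrArg Subtype.val h),
      map_intCast]
  let Y0 := Y.filter fun θ => ∃ b, b ≠ H86.Abelian.triv P ∧ b ∈ B ∧ ζ b = θ
  have hY0 : Y0.card * e + 1 = B.card := by
    have hB1 : H86.Abelian.triv P ∈ B :=
      Finset.mem_filter.2 ⟨Finset.mem_univ _, fun y _ => rfl⟩
    have h1 := Finset.card_eq_sum_card_image ζ (B.erase (H86.Abelian.triv P))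
    have himg : (B.erase (H86.Abelian.triv P)).image ζ = Y0 := by
      ext θ
      simp only [Y0, Finset.mem_image, Finset.mem_erase, Finset.mem_filter]
      constructor
      · rintro ⟨b, ⟨hb, hbB⟩, rfl⟩
        exact ⟨hζmem b hb, b, hb, hbB, rfl⟩
      · rintro ⟨-, b, hb, hbB, rfl⟩
        exact ⟨b, ⟨hb, hbB⟩, rfl⟩
    rw [himg, Finset.sum_congr rfl (g := fun _ => e) fun θ hθ => ?_, Finset.sum_const, smul_eq_mul,
      Finset.card_erase_of_mem hB1] at h1
    · have := Finset.card_pos.2 ⟨_, hB1⟩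
      omega
    · obtain ⟨-, b, hb, hbB, rfl⟩ := Finset.mem_filter.1 hθ
      rw [show (B.erase (H86.Abelian.triv P)).filter (fun b' => ζ b' = ζ b) = H86.Abelian.orb P b from ?_]
      · exact H86.Abelian.card_orb P hfix hb
      ext b'
      simp only [Finset.mem_filter, Finset.mem_erase]
      constructor
      · rintro ⟨⟨hb', -⟩, h⟩
        exact (hζeq b b' hb hb').1 h
      · intro h
        have hb' : b' ≠ H86.Abelian.triv P := by
          obtain ⟨n, rfl⟩ := (H86.Abelian.mem_orb P).1 h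
          exact H86.Abelian.actIrr_ne_triv P hb n
        exact ⟨⟨hb', (horbB b b' h).2 hbB⟩, (hζeq b b' hb hb').2 h⟩
  have key : ∑ χ ∈ X, ((c χ : ℂ) ^ 3 / (charDegree (χ : G → ℂ) : ℂ)) = (δ : ℂ) * (e : ℂ) ^ 2 / D := by
    have h0 : ∑ χ ∈ b0 G M, conj ((χ : G → ℂ) a) * conj ((χ : G → ℂ) a) *
        (∑ y ∈ V, (χ : G → ℂ) y) / (χ : G → ℂ) 1 = 0 := by
      simp only [Finset.mul_sum, Finset.sum_div]
      rw [Finset.sum_comm]
      exact Finset.sum_eq_zero fun y hy =>
        sum_vanish hfix hM ha.2 y.2 (Finset.mem_filter.1 hy).2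
    rw [← Finset.sum_filter_add_sum_filter_not _ (fun χ => χ ∉ Y), ← hXdef] at h0
    have hXpart : ∑ χ ∈ X, conj ((χ : G → ℂ) a) * conj ((χ : G → ℂ) a) *
        (∑ y ∈ V, (χ : G → ℂ) y) / (χ : G → ℂ) 1 =
        (V.card : ℂ) * ∑ χ ∈ X, ((c χ : ℂ) ^ 3 / (charDegree (χ : G → ℂ) : ℂ)) := by
      rw [Finset.mul_sum]
      refine Finset.sum_congr rfl fun χ hχ => ?_
      rw [hcconj χ hχ, apply_one_eq_charDegree, Finset.sum_congr rfl fun y hy =>
        (hX χ (hmX.1 hχ).1 (hmX.1 hχ).2).2 y (hV1 y hy),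
        Finset.sum_const, nsmul_eq_mul]
      ring
    have hYpart : ∑ χ ∈ (b0 G M).filter (fun χ => ¬ χ ∉ Y), conj ((χ : G → ℂ) a) *
        conj ((χ : G → ℂ) a) * (∑ y ∈ V, (χ : G → ℂ) y) / (χ : G → ℂ) 1 =
        (Y0.card : ℂ) * ((e : ℂ) ^ 2 * ((δ : ℂ) * -((e : ℂ) * Nat.card (omega P))) / D) := by
      rw [show (b0 G M).filter (fun χ => ¬ χ ∉ Y) = Y by
        ext χ; simp only [Finset.mem_filter, mem_b0, not_not]; exact ⟨And.right, fun h => ⟨hYmem χ h, h⟩⟩]
      rw [← nsmul_eq_mul, ← Finset.sum_const, Finset.sum_filter]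
      refine Finset.sum_congr rfl fun θ hθ => ?_
      obtain ⟨b, hb, rfl⟩ := hζsurj θ hθ
      rw [hdeg _ hθ, Finset.sum_congr rfl fun y hy => hval b hb y (hV1 y hy), ← Finset.mul_sum,
        hSV b hb,
        hval b hb ⟨a, ha.1⟩ fun h => ha1 (congrArg Subtype.val h)]
      by_cases hbB : b ∈ B
      · rw [if_pos hbB, if_pos ⟨b, hb, hbB, rfl⟩, hSa b hb hbB, map_mul, map_intCast, map_natCast]
        rcases hδ with rfl | rfl <;> push_cast <;> ring
      · rw [if_neg hbB, if_neg]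
        · simp
        rintro ⟨b', hb', hb'B, h⟩
        exact hbB ((horbB b b' ((hζeq b b' hb hb').1 h)).1 hb'B)
    rw [hXpart, hYpart] at h0
    have hV : (V.card : ℂ) = (Nat.card (omega P) : ℂ) * ((Y0.card : ℂ) * e) := by
      rw [hVcard, ← hBcard, ← hY0]; push_cast; ring
    have hV0 : (V.card : ℂ) ≠ 0 := Nat.cast_ne_zero.2 (Finset.card_ne_zero.2
      ⟨⟨v, hv⟩, Finset.mem_filter.2 ⟨Finset.mem_univ _, hv2⟩⟩)
    refine mul_left_cancel₀ hV0 ?_
    rw [eq_neg_of_add_eq_zero_left h0, hV]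
    ring
  -- real form
  have keyR : ∑ χ ∈ X, ((c χ : ℝ) ^ 3 / (charDegree (χ : G → ℂ) : ℝ)) = (δ : ℝ) * (e : ℝ) ^ 2 / D := by
    apply Complex.ofReal_injective
    push_cast
    exact key
  have hXsqR : ∑ χ ∈ X, (c χ : ℝ) ^ 2 = e := by exact_mod_cast hXsq
  have hqR : (1 : ℝ) < q := by exact_mod_cast (show 1 < q by omega)
  have hD0R : (0 : ℝ) < D := by exact_mod_cast charDegree_pos (ζ b₀)
  have hlow : ∀ χ ∈ X, -((c χ : ℝ) ^ 2 / ((q : ℝ) - 1)) ≤ (c χ : ℝ) ^ 3 / (charDegree (χ : G → ℂ) : ℝ) := by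
    intro χ hχ
    refine cube_div_ge hqR (by exact_mod_cast charDegree_pos χ) ?_
    exact_mod_cast neg_degree_le (hX χ (hmX.1 hχ).1 (hmX.1 hχ).2).2
  have hlow1 : 1 - (e : ℝ) / ((q : ℝ) - 1) ≤ (δ : ℝ) * (e : ℝ) ^ 2 / D := by
    rw [← keyR, ← Finset.add_sum_erase _ _ htr, ← hXsqR, Finset.sum_div,
      ← Finset.add_sum_erase _ (fun χ => (c χ : ℝ) ^ 2 / ((q : ℝ) - 1)) htr]
    have h1 : (charDegree ((trivialIrr : IrrCharacter G) : G → ℂ) : ℝ) = 1 := by
      have h := apply_one_eq_charDegree (trivialIrr : IrrCharacter G)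
      have h2 : ((charDegree ((trivialIrr : IrrCharacter G) : G → ℂ) : ℕ) : ℂ) = 1 := h.symm
      exact_mod_cast h2
    rw [h1, hctr, Int.cast_one, one_pow, one_pow, div_one]
    have hs := Finset.sum_le_sum (s := X.erase trivialIrr) fun χ hχ => hlow χ (Finset.mem_of_mem_erase hχ)
    rw [Finset.sum_neg_distrib] at hs
    have : (0 : ℝ) ≤ 1 / ((q : ℝ) - 1) := div_nonneg zero_le_one (by linarith)
    linarith
  have hsmall : (e : ℝ) / ((q : ℝ) - 1) < 1 := by
    rw [div_lt_one (by linarith)]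
    exact_mod_cast (show (e : ℤ) < (q : ℤ) - 1 by omega)
  obtain rfl : δ = 1 := by
    rcases hδ with h | h
    · exact h
    · exfalso
      subst h
      have : ((-1 : ℤ) : ℝ) * (e : ℝ) ^ 2 / D ≤ 0 :=
        div_nonpos_of_nonpos_of_nonneg (by push_cast; nlinarith) hD0R.le
      linarith
  rw [one_mul] at hmD
  rw [Int.cast_one, one_mul] at hlow1 keyR
  rcases Nat.eq_zero_or_pos mD with rfl | hmD1
  · -- equality of cubes and squares
    have hDe : D = e := by push_cast at hmD; omega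
    have heR : (e : ℝ) ≠ 0 := by exact_mod_cast eInd_pos.ne'
    rw [hDe, pow_two, mul_div_assoc, div_self heR, mul_one, ← hXsqR] at keyR
    have hle : ∀ χ ∈ X, (c χ : ℝ) ^ 3 / (charDegree (χ : G → ℂ) : ℝ) ≤ (c χ : ℝ) ^ 2 := by
      intro χ hχ
      rw [div_le_iff₀ (by exact_mod_cast charDegree_pos χ), pow_succ]
      refine mul_le_mul_of_nonneg_left ?_ (sq_nonneg _)
      have := (le_abs_self (c χ)).trans (abs_le_degree
        ((hX χ (hmX.1 hχ).1 (hmX.1 hχ).2).2 ⟨a, ha.1⟩ fun h => ha1 (congrArg Subtype.val h)))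
      exact_mod_cast this
    haveI : Finite (Lin P) := Nat.finite_of_card_ne_zero
      (by rw [card_lin hfix hrank hab]; exact eInd_pos.ne')
    obtain ⟨l, hl⟩ : ∃ l : Lin P, l.1 ≠ 1 := by
      by_contra h
      push Not at h
      have : Subsingleton (Lin P) := ⟨fun x y => Subtype.ext ((h x).trans (h y).symm)⟩
      have hc := Finite.card_le_one_iff_subsingleton.2 this
      rw [card_lin hfix hrank hab, ← he] at hc
      omega
    set χ := indIrr P hfix hrank hSE ⟨l, hl⟩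
    have hχval : ∀ y : (P : Subgroup G), y ≠ 1 → (χ : G → ℂ) y = 1 := fun y hy =>
      indIrr_sylow hfix hrank hSE _ y.2 fun h => hy (Subtype.ext h)
    have hχY : χ ∉ Y := fun hχY => by
      obtain ⟨b, hb, hbθ⟩ := hζsurj χ hχY
      have h1 : ∑ y ∈ (Finset.univ.erase (1 : (P : Subgroup G))), (χ : G → ℂ) y =
          ∑ y ∈ (Finset.univ.erase (1 : (P : Subgroup G))), (1 : ℂ) :=
        Finset.sum_congr rfl fun y hy => hχval y (Finset.ne_of_mem_erase hy)
      rw [← hbθ, Finset.sum_congr rfl fun y hy => hval b hb y (Finset.ne_of_mem_erase hy),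
        ← Finset.mul_sum, Finset.sum_erase_eq_sub (Finset.mem_univ _), hSsum b hb, hS1 b hb,
        Finset.sum_const, nsmul_one, Finset.card_erase_of_mem (Finset.mem_univ _),
        Finset.card_univ, ← Nat.card_eq_fintype_card, ← hq] at h1
      have h2 : ((1 : ℤ) * (0 - (e : ℤ)) : ℂ) = ((q - 1 : ℕ) : ℂ) := by push_cast at h1 ⊢; exact h1
      have h3 : (1 : ℤ) * (0 - (e : ℤ)) = ((q - 1 : ℕ) : ℤ) := by exact_mod_cast h2
      omega
    have hχX : χ ∈ X := hmX.2 ⟨indIrr_mem hfix hrank hSE hM _, hχY⟩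
    have hc1 : c χ = 1 := by
      have h := (hX χ (hmX.1 hχX).1 hχY).2 ⟨a, ha.1⟩ fun h => ha1 (congrArg Subtype.val h)
      rw [hχval _ fun h => ha1 (congrArg Subtype.val h)] at h
      exact_mod_cast h.symm
    have hdegχ : charDegree (χ : G → ℂ) = (bigM P).index := by
      have h := (apply_one_eq_charDegree χ).symm.trans (indIrr_one hfix hrank hSE ⟨l, hl⟩)
      exact_mod_cast h
    have hlt1 := Finset.sum_lt_sum hle ⟨χ, hχX, by
      rw [hc1, hdegχ, Int.cast_one, one_pow, one_pow,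
        div_lt_one (by exact_mod_cast Nat.pos_of_ne_zero index_ne_zero_of_finite)]
      exact_mod_cast (index_bigM hfix hSE).1⟩
    linarith
  · have hDge : e + q ≤ D := by
      have : (q : ℤ) * 1 ≤ q * mD := mul_le_mul_of_nonneg_left (by exact_mod_cast hmD1) (by positivity)
      omega
    have h2 : (e : ℝ) ^ 2 / D ≤ (e : ℝ) ^ 2 / (e + q) :=
      div_le_div_of_nonneg_left (by positivity) (by positivity) (by exact_mod_cast hDge)
    have h3 : (e : ℝ) ^ 2 / (e + q) < 1 - (e : ℝ) / ((q : ℝ) - 1) := by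
      have hsqR : ((e : ℝ) + 1) ^ 2 ≤ q := by exact_mod_cast hsq
      rw [one_sub_div (by linarith), div_lt_div_iff₀ (by positivity) (by linarith)]
      have hee : (1 : ℝ) ≤ e := by exact_mod_cast eInd_pos (P := P)
      nlinarith [mul_le_mul_of_nonneg_left hsqR (show (0 : ℝ) ≤ q by linarith)]
    linarith

end Cfsg.Agent.H29.AbTwo
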