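import Cfsg.Agent.H29.AbTwo.Count
import Cfsg.Agent.H29.AbTwo.Bound
import Cfsg.Agent.S4626

/-!
# The principal block for a free action of the automizer with large rank
-/

set_option autoImplicit false
set_option linter.unusedSectionVars false
set_option linter.style.haveILetI false

namespace Cfsg.Agent.H29.AbTwo

open Subgroup CharInduce CharBasic BlockBasic

universe u

variable {G : Type u} [Group G] [Fintype G] {M : Ideal AlgInt}
variable {P : Sylow 2 G} [IsMulCommutative (P : Subgroup G)]
variable (hfix : H86.Abelian.FreeFusion P) (hrank : 8 ≤ Nat.card (omega P))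
variable (hab : ∀ g ∈ normalizer ((P : Subgroup G) : Set G),
  ∀ h ∈ normalizer ((P : Subgroup G) : Set G),
    g * h * g⁻¹ * h⁻¹ ∈ centralizer ((P : Subgroup G) : Set G))

include hfix hrank hab in
/-- The big subgroup being everything gives a solvable group. -/
theorem isSolvable_of_top (htop : bigM P = ⊤) : Group.IsSolvable G := by
  have hall : ∀ x : G, x ∈ bigM P := fun x => htop ▸ mem_top x
  haveI hWn : (bigW P).Normal := ⟨fun w hw g => by
    have hle : bigM P ≤ normalizer (bigW P : Set G) :=
      sup_le le_normalizer fun _ hn => conj_mem_bigW hfix hn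
    exact (mem_normalizer_iff.1 (hle (hall g)) w).1 hw⟩
  haveI : Group.IsSolvable (bigW P) := S0205.result (closure_spec hfix hrank).1
  haveI : (bigK P).Normal := ⟨fun w hw g =>
    (mem_normalizer_iff.1 (bigM_le_normalizer_bigK hfix (hall g)) w).1 hw⟩
  have hsurj : ∀ x : G, ∃ w ∈ bigW P, ∃ n ∈ normalizer ((P : Subgroup G) : Set G), x = w * n :=
    fun x => (mem_bigM hfix).1 (hall x)
  haveI : Group.IsSolvable (G ⧸ bigK P) := by
    refine Group.isSolvable_of_comm fun a b => ?_
    obtain ⟨x, rfl⟩ := QuotientGroup.mk_surjective a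
    obtain ⟨y, rfl⟩ := QuotientGroup.mk_surjective b
    obtain ⟨w, hw, n, hn, rfl⟩ := hsurj x
    obtain ⟨w', hw', n', hn', rfl⟩ := hsurj y
    have h1 : ((w : G) : G ⧸ bigK P) = 1 := (QuotientGroup.eq_one_iff w).2 (mem_sup_left hw)
    have h2 : ((w' : G) : G ⧸ bigK P) = 1 := (QuotientGroup.eq_one_iff w').2 (mem_sup_left hw')
    rw [QuotientGroup.mk_mul, QuotientGroup.mk_mul, h1, h2, one_mul, one_mul,
      ← QuotientGroup.mk_mul, ← QuotientGroup.mk_mul]
    refine QuotientGroup.eq.2 (centralizer_sylow_le_bigK hfix hrank ?_)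
    have := hab _ (inv_mem hn') _ (inv_mem hn)
    convert this using 1
    group
  haveI : Group.IsSolvable (bigK P) := by
    haveI : ((bigW P).subgroupOf (bigK P)).Normal := hWn.subgroupOf _
    haveI : Group.IsSolvable ((bigW P).subgroupOf (bigK P)) :=
      Group.isSolvable_of_isSolvable_injective
        (f := (subgroupOfEquivOfLe (le_sup_left : bigW P ≤ bigK P)).toMonoidHom)
        (MulEquiv.injective _)
    refine (Group.isSolvable_iff_subgroup_quotient ((bigW P).subgroupOf (bigK P))).2
      ⟨inferInstance, Group.isSolvable_of_comm fun a b => ?_⟩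
    obtain ⟨⟨x, hx⟩, rfl⟩ := QuotientGroup.mk_surjective a
    obtain ⟨⟨y, hy⟩, rfl⟩ := QuotientGroup.mk_surjective b
    have hx' := hx
    have hy' := hy
    rw [bigK, ← SetLike.mem_coe, coe_mul_of_right_le_normalizer_left _ _
      (fun y hy => conj_mem_bigW hfix (le_normalizer hy))] at hx' hy'
    obtain ⟨w, hw, p, hp, rfl⟩ := hx'
    obtain ⟨w', hw', p', hp', rfl⟩ := hy'
    refine QuotientGroup.eq.2 (mem_subgroupOf.2 ?_)
    push_cast
    rw [← QuotientGroup.eq]
    simp only [QuotientGroup.mk_mul, (QuotientGroup.eq_one_iff w).2 hw,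
      (QuotientGroup.eq_one_iff w').2 hw', one_mul]
    rw [← QuotientGroup.mk_mul, ← QuotientGroup.mk_mul, H86.Abelian.mul_comm_sylow P hp hp']
  exact (Group.isSolvable_iff_subgroup_quotient (bigK P)).2 ⟨inferInstance, inferInstance⟩

include hfix hrank hab in
/-- The lower bound for the number of modular characters when the big subgroup is everything. -/
theorem le_blockRank_of_top (hM : IsPModular 2 M) (htop : bigM P = ⊤) :
    eInd P ≤ blockRank 2 (principalBlock M G) := by
  classical
  haveI : Fact (Nat.Prime 2) := ⟨Nat.prime_two⟩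
  have hall : ∀ x : G, x ∈ bigM P := fun x => htop ▸ mem_top x
  haveI : (bigK P).Normal := ⟨fun w hw g =>
    (mem_normalizer_iff.1 (bigM_le_normalizer_bigK hfix (hall g)) w).1 hw⟩
  have hidx : (bigK P).index = eInd P := by
    have h := (bigK P).index_mul_card
    have h2 := card_bigM hfix hrank
    rw [htop, card_top] at h2
    rw [h2] at h
    exact Nat.eq_of_mul_eq_mul_right Nat.card_pos h
  let up : G →* bigM P := (MonoidHom.id G).codRestrict (bigM P) hall
  haveI : Finite (Lin P) := Nat.finite_of_card_ne_zero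
    (by rw [card_lin hfix hrank hab]; exact eInd_pos.ne')
  cases nonempty_fintype (Lin P)
  let lG : Lin P → G →* ℂˣ := fun l => l.1.comp up
  have hK1 : ∀ (l : Lin P), ∀ k ∈ bigK P, lG l k = 1 := fun l k hk => l.2 (up k) hk
  have hreg : ∀ (l : Lin P) (g : G), lG l (pReg (p := 2) g) = lG l g := by
    intro l g
    obtain ⟨k, hk⟩ := exists_orderOf_pPart (p := 2) g
    have h1 : lG l (pPart (p := 2) g) ^ (2 ^ k) = 1 := by
      rw [← map_pow, ← hk, pow_orderOf_eq_one, map_one]
    have h2 : lG l (pPart (p := 2) g) ^ eInd P = 1 := by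
      rw [← map_pow]
      exact hK1 l _ (hidx ▸ pow_index_mem _ _)
    have h3 := pow_gcd_eq_one.2 ⟨h1, h2⟩
    have hco : Nat.gcd (2 ^ k) (eInd P) = 1 := Nat.Coprime.pow_left k
      (Nat.prime_two.coprime_iff_not_dvd.2 (by have := odd_eInd (P := P); rw [Nat.odd_iff] at this; omega))
    rw [hco, pow_one] at h3
    conv_rhs => rw [← pPart_mul_pReg (p := 2) g, map_mul, h3, one_mul]
  let χ : Lin P → IrrCharacter G := fun l =>
    ⟨fun g => (lG l g : ℂ), isIrrCharacter_hom (lG l)⟩
  have hmem : ∀ l, χ l ∈ principalBlock M G := fun l => by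
    refine S4626.result 2 M hM P (bigK P) ?_ (centralizer_sylow_le_bigK hfix hrank) (χ l)
      fun n hn => ?_
    · rw [hidx]; have := odd_eInd (P := P); rw [Nat.odd_iff] at this; omega
    · show (lG l n : ℂ) = (lG l 1 : ℂ)
      rw [hK1 l n hn, map_one]
  let S := Submodule.span ℂ ((fun χ : IrrCharacter G => pRegularPart 2 (χ : G → ℂ)) ''
    principalBlock M G)
  let v : Lin P → S := fun l =>
    ⟨pRegularPart 2 (χ l : G → ℂ), Submodule.subset_span ⟨χ l, hmem l, rfl⟩⟩
  have hli : LinearIndependent ℂ v := by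
    rw [Fintype.linearIndependent_iff]
    intro c hc
    have hc' : ∀ g : G, ∑ l : Lin P, c l * (lG l g : ℂ) = 0 := by
      intro g
      have h := congrFun (congrArg Subtype.val hc) (pReg (p := 2) g)
      have hr : IsPRegular 2 (pReg (p := 2) g) := not_dvd_orderOf_pReg g
      simp only [v, χ, AddSubmonoidClass.coe_finsetSum, Finset.sum_apply, SetLike.val_smul,
        Pi.smul_apply, smul_eq_mul, pRegularPart, if_pos hr, hreg, ZeroMemClass.coe_zero,
        Pi.zero_apply] at h
      exact h
    let F : Lin P → (G →* ℂ) := fun l => (Units.coeHom ℂ).comp (lG l)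
    have hF : Function.Injective F := fun l l' h => Subtype.ext (MonoidHom.ext fun m => by
      have h2 : (lG l (m : G) : ℂ) = (lG l' (m : G) : ℂ) := DFunLike.congr_fun h (m : G)
      exact Units.ext h2)
    have h := (linearIndependent_monoidHom G ℂ).comp F hF
    rw [Fintype.linearIndependent_iff] at h
    refine h c (funext fun g => ?_)
    simp only [Finset.sum_apply, Pi.smul_apply, smul_eq_mul, Function.comp_apply]
    exact hc' g
  have h := hli.fintype_card_le_finrank
  rw [← Nat.card_eq_fintype_card, card_lin hfix hrank hab] at h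
  exact h

include hfix hrank hab in
/-- The theorem for a free action of large rank. -/
theorem free_main (hM : IsPModular 2 M) :
    blockRank 2 (principalBlock M G) = eInd P ∧
      (¬ Group.IsSolvable G → Nat.card (P : Subgroup G) = eInd P + 1) := by
  haveI : Fact (Nat.Prime 2) := ⟨Nat.prime_two⟩
  obtain ⟨a, ha, ha1⟩ := exists_omega_ne_one hrank
  have hP : (P : Subgroup G) ≠ ⊥ := fun h => ha1 (mem_bot.1 (h ▸ ha.1))
  obtain ⟨hk, hl, hiff, -⟩ := bound P hM hfix hP hab (e := eInd P) rfl
  by_cases htop : bigM P = ⊤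
  · exact ⟨le_antisymm hl (le_blockRank_of_top hfix hrank hab hM htop),
      fun h => absurd (isSolvable_of_top hfix hrank hab htop) h⟩
  · have hSE := stronglyEmbedded hfix htop ha ha1
    obtain ⟨hqe, -⟩ := index_structure hfix hrank hab hSE hM ha ha1
    have hge := card_block_ge hfix hrank hab hSE hM
    refine ⟨hiff.1 ?_, fun _ => hqe⟩
    have hdiv : (Nat.card (P : Subgroup G) - 1) / eInd P = 1 := by
      rw [hqe, Nat.add_sub_cancel, Nat.div_self eInd_pos]
    omega

end Cfsg.Agent.H29.AbTwo
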