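import Cfsg.Agent.H29.AbTwo.Basic
import Cfsg.Agent.S0217
import Cfsg.Agent.S0205
import Cfsg.Agent.S0223

/-!
# The signalizer closure and the strongly embedded alternative
-/

set_option autoImplicit false
set_option linter.unusedSectionVars false
set_option linter.style.haveILetI false

namespace Cfsg.Agent.H29.AbTwo

open Subgroup

universe u

variable {G : Type u} [Group G] [Finite G] (P : Sylow 2 G) [IsMulCommutative (P : Subgroup G)]

/-- The closure of the odd cores of centralizers of involutions of the Sylow subgroup. -/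
noncomputable def bigW : Subgroup G := ⨆ a : {a : G // a ∈ omega P ∧ a ≠ 1}, oddAt a.1

/-- The subgroup generated by the closure and the normalizer. -/
noncomputable def bigM : Subgroup G := bigW P ⊔ normalizer ((P : Subgroup G) : Set G)

variable {P}
variable (hfix : H86.Abelian.FreeFusion P) (hrank : 8 ≤ Nat.card (omega P))

include hfix hrank in
theorem closure_spec :
    Odd (Nat.card (bigW P)) ∧ ∀ a ∈ omega P, a ≠ 1 → bigW P ⊓ centralizer ({a} : Set G) = oddAt a := by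
  haveI : Fact (Nat.Prime 2) := ⟨Nat.prime_two⟩
  have h := S0217.result (p := 2) (omega P)
    (fun a ha b hb => H86.Abelian.mul_comm_sylow P ha.1 hb.1) (fun a ha => ha.2)
    (by simpa using hrank) oddAt (fun a _ _ => oddAt_le a)
    (fun a _ _ => by have := odd_card_oddAt a; rw [Nat.odd_iff] at this; omega)
    (fun a ha ha1 b hb x hx => by
      have hc : b * a * b⁻¹ = a := by
        rw [H86.Abelian.mul_comm_sylow P hb.1 ha.1, mul_inv_cancel_right]
      have hn := H86.Abelian.pNilAt_of_mem P hfix ha.1 ha1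
      have := conj_oddAt b hn (by rwa [hc]) hx
      rwa [hc] at this)
    (fun a _ _ => S0205.result (odd_card_oddAt a))
    (fun a _ _ b hb hb1 x hx => (mem_oddAt_iff (H86.Abelian.pNilAt_of_mem P hfix hb.1 hb1)).2
      ⟨mem_centralizer_singleton_iff.1 hx.2, odd_orderOf_of_mem (odd_card_oddAt a) hx.1⟩)
  refine ⟨?_, h.2⟩
  rw [Nat.odd_iff]
  have h1 := h.1
  change ¬ 2 ∣ Nat.card (bigW P) at h1
  omega

theorem oddAt_le_bigW_omega {a : G} (ha : a ∈ omega P) (ha1 : a ≠ 1) : oddAt a ≤ bigW P :=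
  le_iSup (fun a : {a : G // a ∈ omega P ∧ a ≠ 1} => oddAt a.1) ⟨a, ha, ha1⟩

include hfix in
theorem oddAt_le_bigW {v : G} (hv : v ∈ (P : Subgroup G)) (hv1 : v ≠ 1) :
    oddAt v ≤ bigW P := fun x hx => by
  obtain ⟨j, hj, hj1⟩ := exists_pow_omega hv hv1
  exact oddAt_le_bigW_omega hj hj1 (mem_oddAt_of_pow (H86.Abelian.pNilAt_of_mem P hfix hj.1 hj1) hx)

include hfix in
theorem conj_mem_bigW {n : G} (hn : n ∈ normalizer ((P : Subgroup G) : Set G)) :
    n ∈ normalizer (bigW P : Set G) := by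
  have key : ∀ m ∈ normalizer ((P : Subgroup G) : Set G), ∀ x ∈ bigW P, m * x * m⁻¹ ∈ bigW P := by
    intro m hm
    have hle : bigW P ≤ (bigW P).comap (MulAut.conj m).toMonoidHom := by
      refine iSup_le fun a => ?_
      intro x hx
      show m * x * m⁻¹ ∈ bigW P
      have hm' := conj_mem_omega P hm a.2.1
      have hm1 : m * a.1 * m⁻¹ ≠ 1 := fun e => a.2.2 (conj_eq_one_iff.1 e)
      exact oddAt_le_bigW_omega hm' hm1 (conj_oddAt m
        (H86.Abelian.pNilAt_of_mem P hfix a.2.1.1 a.2.2)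
        (H86.Abelian.pNilAt_of_mem P hfix hm'.1 hm1) hx)
    exact fun x hx => hle hx
  refine mem_normalizer_iff.2 fun x => ⟨key n hn x, fun hx => ?_⟩
  have := key n⁻¹ (inv_mem hn) _ hx
  simpa [mul_assoc] using this

include hfix in
theorem mem_bigM {x : G} : x ∈ bigM P ↔
    ∃ w ∈ bigW P, ∃ n ∈ normalizer ((P : Subgroup G) : Set G), x = w * n := by
  constructor
  · intro hx
    have h := hx
    rw [bigM, ← SetLike.mem_coe, coe_mul_of_right_le_normalizer_left _ _
      (fun n hn => conj_mem_bigW hfix hn)] at h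
    obtain ⟨w, hw, n, hn, e⟩ := h
    exact ⟨w, hw, n, hn, e.symm⟩
  · rintro ⟨w, hw, n, hn, rfl⟩
    exact mul_mem (mem_sup_left hw) (mem_sup_right hn)

theorem normalizer_le_bigM : normalizer ((P : Subgroup G) : Set G) ≤ bigM P := le_sup_right

theorem sylow_le_bigM : (P : Subgroup G) ≤ bigM P := le_normalizer.trans normalizer_le_bigM

theorem bigW_le_bigM : bigW P ≤ bigM P := le_sup_left

include hfix in
theorem centralizer_le_bigM {v : G} (hv : v ∈ (P : Subgroup G)) (hv1 : v ≠ 1) :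
    centralizer ({v} : Set G) ≤ bigM P := fun c hc => by
  obtain ⟨k, hk, y, hy, rfl⟩ := centralizer_eq hfix hv hv1 hc
  exact mul_mem (bigW_le_bigM (oddAt_le_bigW hfix hv hv1 hk)) (sylow_le_bigM hy)

/-- An involution of a subgroup containing the Sylow subgroup is conjugate into it there. -/
theorem exists_conj_sylow {H : Subgroup G} (hle : (P : Subgroup G) ≤ H) {t : G}
    (htM : t ∈ H) (ht : t ^ 2 = 1) : ∃ m ∈ H, m * t * m⁻¹ ∈ omega P := by
  haveI : Fact (Nat.Prime 2) := ⟨Nat.prime_two⟩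
  set Q := P.subtype hle
  have hz : IsPGroup 2 (zpowers (⟨t, htM⟩ : H)) := fun x => ⟨1, by
    obtain ⟨i, hi⟩ := mem_zpowers_iff.1 x.2
    refine Subtype.ext ?_
    rw [Subgroup.coe_pow, ← hi, pow_one, ← zpow_natCast _ 2, ← zpow_mul, mul_comm, zpow_mul,
      zpow_natCast, show (⟨t, htM⟩ : H) ^ 2 = 1 from Subtype.ext ht, one_zpow,
      Subgroup.coe_one]⟩
  obtain ⟨S, hS⟩ := hz.exists_le_sylow
  obtain ⟨g, hg⟩ := MulAction.exists_smul_eq H S Q
  have hmem : g * ⟨t, htM⟩ * g⁻¹ ∈ (Q : Subgroup H) := by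
    rw [← hg]
    exact (Fusion.mem_sylow_smul).2 (by
      rw [show g⁻¹ * (g * ⟨t, htM⟩ * g⁻¹) * g = (⟨t, htM⟩ : H) by group]
      exact hS (mem_zpowers _))
  exact ⟨g, g.2, hmem, by rw [conj_pow, ht, mul_one, mul_inv_cancel]⟩

include hfix in
theorem even_card_bigM {a : G} (ha : a ∈ omega P) (ha1 : a ≠ 1) : Even (Nat.card (bigM P)) := by
  rw [even_iff_two_dvd, ← orderOf_omega ha ha1, ← orderOf_mk a (sylow_le_bigM ha.1)]
  exact orderOf_dvd_natCard _

include hfix in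
theorem stronglyEmbedded (hne : bigM P ≠ ⊤) {a : G} (ha : a ∈ omega P) (ha1 : a ≠ 1) :
    IsStronglyEmbedded (bigM P) := by
  haveI : Fact (Nat.Prime 2) := ⟨Nat.prime_two⟩
  refine (S0223.result (bigM P) hne (even_card_bigM hfix ha ha1)).2 ⟨fun t ht htt => ?_, ?_⟩
  · obtain ⟨m, hm, hmP⟩ := exists_conj_sylow sylow_le_bigM ht (htt ▸ pow_orderOf_eq_one t)
    intro c hc
    have h1 : m * t * m⁻¹ ≠ 1 := fun e => by
      rw [conj_eq_one_iff.1 e, orderOf_one] at htt; omega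
    have hc' : m * c * m⁻¹ ∈ bigM P := by
      refine centralizer_le_bigM hfix hmP.1 h1 (mem_centralizer_singleton_iff.2 ?_)
      calc m * c * m⁻¹ * (m * t * m⁻¹) = m * (c * t) * m⁻¹ := by group
        _ = m * (t * c) * m⁻¹ := by rw [mem_centralizer_singleton_iff.1 hc]
        _ = _ := by group
    have := mul_mem (mul_mem (inv_mem hm) hc') hm
    simpa [mul_assoc] using this
  · intro t ht s hs htt hss hconj
    obtain ⟨m, hm, hmP⟩ := exists_conj_sylow sylow_le_bigM ht (htt ▸ pow_orderOf_eq_one t)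
    obtain ⟨m', hm', hmP'⟩ := exists_conj_sylow sylow_le_bigM hs (hss ▸ pow_orderOf_eq_one s)
    obtain ⟨g, hg⟩ := isConj_iff.1 hconj
    obtain ⟨n, hn, he⟩ := P.conj_eq_normalizer_conj_of_mem (m * t * m⁻¹) (m * g⁻¹ * m'⁻¹) hmP.1 (by
      rw [show (m * g⁻¹ * m'⁻¹)⁻¹ * (m * t * m⁻¹) * (m * g⁻¹ * m'⁻¹) =
        m' * (g * t * g⁻¹) * m'⁻¹ by group, hg]
      exact hmP'.1)
    refine ⟨m'⁻¹ * n⁻¹ * m, mul_mem (mul_mem (inv_mem hm') (inv_mem (normalizer_le_bigM hn))) hm, ?_⟩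
    rw [show (m * g⁻¹ * m'⁻¹)⁻¹ * (m * t * m⁻¹) * (m * g⁻¹ * m'⁻¹) =
      m' * (g * t * g⁻¹) * m'⁻¹ by group, hg] at he
    calc m'⁻¹ * n⁻¹ * m * t * (m'⁻¹ * n⁻¹ * m)⁻¹
        = m'⁻¹ * (n⁻¹ * (m * t * m⁻¹) * n) * m' := by group
      _ = m'⁻¹ * (m' * s * m'⁻¹) * m' := by rw [← he]
      _ = s := by group

end Cfsg.Agent.H29.AbTwo
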