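import Cfsg.Agent.H29.AbTwo.Exceptional

/-!
# The index of the big subgroup in the elementary abelian strongly embedded case
-/

set_option autoImplicit false
set_option linter.unusedSectionVars false
set_option linter.style.haveILetI false
set_option maxHeartbeats 1000000

open scoped ComplexConjugate

namespace Cfsg.Agent.H29.AbTwo

open Subgroup CharInduce CharBasic BlockBasic

universe u

variable {G : Type u} [Group G] [Fintype G]

open scoped Classical in
/-- The integer value of a character, when it is an integer. -/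
noncomputable def cInt (χ : IrrCharacter G) (a : G) : ℤ :=
  if h : ∃ v : ℤ, (χ : G → ℂ) a = v then h.choose else 0

theorem cInt_spec (χ : IrrCharacter G) {a : G} (ha : a ^ 2 = 1) :
    (χ : G → ℂ) a = cInt χ a := by
  classical
  have h := exists_int_omega χ.2 ha
  rw [cInt, dif_pos h]
  exact h.choose_spec

variable {M : Ideal AlgInt} {P : Sylow 2 G} [IsMulCommutative (P : Subgroup G)]
variable (hfix : H86.Abelian.FreeFusion P) (hrank : 8 ≤ Nat.card (omega P))
variable (hab : ∀ g ∈ normalizer ((P : Subgroup G) : Set G),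
  ∀ h ∈ normalizer ((P : Subgroup G) : Set G),
    g * h * g⁻¹ * h⁻¹ ∈ centralizer ((P : Subgroup G) : Set G))
variable (hSE : IsStronglyEmbedded (bigM P))

variable (P) in
open scoped Classical in
/-- The induced characters of the principal block. -/
noncomputable def indSet (hfix : H86.Abelian.FreeFusion P) (hrank : 8 ≤ Nat.card (omega P))
    (hSE : IsStronglyEmbedded (bigM P)) (M : Ideal AlgInt) : Finset (IrrCharacter G) :=
  (b0 G M).filter fun χ => χ ∈ Set.range (indIrr P hfix hrank hSE)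

variable (P) in
open scoped Classical in
/-- The other characters not vanishing at an involution. -/
noncomputable def restSet (hfix : H86.Abelian.FreeFusion P) (hrank : 8 ≤ Nat.card (omega P))
    (hSE : IsStronglyEmbedded (bigM P)) (M : Ideal AlgInt) (a : G) : Finset (IrrCharacter G) :=
  (b0 G M).filter fun χ => cInt χ a ≠ 0 ∧ χ ≠ trivialIrr ∧ χ ∉ Set.range (indIrr P hfix hrank hSE)

theorem mem_indSet {χ : IrrCharacter G} :
    χ ∈ indSet P hfix hrank hSE M ↔
      χ ∈ principalBlock M G ∧ χ ∈ Set.range (indIrr P hfix hrank hSE) := by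
  classical simp [indSet, mem_b0]

theorem mem_restSet {a : G} {χ : IrrCharacter G} :
    χ ∈ restSet P hfix hrank hSE M a ↔ χ ∈ principalBlock M G ∧
      cInt χ a ≠ 0 ∧ χ ≠ trivialIrr ∧ χ ∉ Set.range (indIrr P hfix hrank hSE) := by
  classical simp [restSet, mem_b0]

theorem cInt_trivial (a : G) (ha : a ^ 2 = 1) : cInt (trivialIrr : IrrCharacter G) a = 1 := by
  have h := cInt_spec (trivialIrr : IrrCharacter G) ha
  have h2 : ((1 : ℤ) : ℂ) = (cInt (trivialIrr : IrrCharacter G) a : ℂ) := by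
    rw [← h, Int.cast_one]; rfl
  exact_mod_cast h2.symm

include hfix hrank hSE in
theorem indSet_props {a : G} (ha : a ∈ omega P) (ha1 : a ≠ 1) {χ : IrrCharacter G}
    (hχ : χ ∈ indSet P hfix hrank hSE M) :
    cInt χ a = 1 ∧ charDegree (χ : G → ℂ) = (bigM P).index := by
  obtain ⟨-, l, rfl⟩ := (mem_indSet hfix hrank hSE).1 hχ
  constructor
  · have h := cInt_spec (indIrr P hfix hrank hSE l) ha.2
    rw [indIrr_sylow hfix hrank hSE l ha.1 ha1] at h
    exact_mod_cast h.symm
  · have h := (apply_one_eq_charDegree _).symm.trans (indIrr_one hfix hrank hSE l)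
    exact_mod_cast h

include hfix hSE in
theorem trivial_not_mem_range :
    (trivialIrr : IrrCharacter G) ∉ Set.range (indIrr P hfix hrank hSE) := by
  rintro ⟨l, hl⟩
  have h := indIrr_one hfix hrank hSE l
  rw [hl] at h
  have h2 : ((1 : ℕ) : ℂ) = ((bigM P).index : ℂ) := by rw [← h, Nat.cast_one]; rfl
  have := (index_bigM hfix hSE).1
  have h3 : (1 : ℕ) = (bigM P).index := by exact_mod_cast h2
  omega

include hfix hrank hSE in
/-- Splitting a sum weighted by the column of an involution. -/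
theorem sum_split (hM : IsPModular 2 M) {a : G} (ha : a ∈ omega P) {R : Type*} [AddCommMonoid R]
    (F : IrrCharacter G → R) (hF : ∀ χ, cInt χ a = 0 → F χ = 0) :
    ∑ χ ∈ b0 G M, F χ = F trivialIrr + (∑ χ ∈ indSet P hfix hrank hSE M, F χ +
      ∑ χ ∈ restSet P hfix hrank hSE M a, F χ) := by
  classical
  have htr : (trivialIrr : IrrCharacter G) ∈ b0 G M := mem_b0.2 (sameBlock_refl hM _)
  rw [← Finset.add_sum_erase _ _ htr]
  congr 1
  rw [← Finset.sum_filter_add_sum_filter_not ((b0 G M).erase trivialIrr)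
    (fun χ => χ ∈ Set.range (indIrr P hfix hrank hSE))]
  congr 1
  · refine Finset.sum_congr ?_ fun _ _ => rfl
    ext χ
    simp only [Finset.mem_filter, Finset.mem_erase, mem_b0, mem_indSet]
    exact ⟨fun h => ⟨h.1.2, h.2⟩,
      fun h => ⟨⟨fun e => trivial_not_mem_range hfix hrank hSE (e ▸ h.2), h.1⟩, h.2⟩⟩
  · rw [← Finset.sum_filter_add_sum_filter_not (((b0 G M).erase trivialIrr).filter fun χ =>
      χ ∉ Set.range (indIrr P hfix hrank hSE)) (fun χ => cInt χ a = 0),
      Finset.sum_eq_zero fun χ hχ => hF χ (Finset.mem_filter.1 hχ).2, zero_add]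
    refine Finset.sum_congr ?_ fun _ _ => rfl
    ext χ
    simp only [Finset.mem_filter, Finset.mem_erase, mem_b0, mem_restSet]
    tauto

include hfix hrank hab hSE in
/-- The big subgroup has index one more than the order of the Sylow subgroup. -/
theorem index_structure (hM : IsPModular 2 M) {a : G} (ha : a ∈ omega P) (ha1 : a ≠ 1) :
    Nat.card (P : Subgroup G) = eInd P + 1 ∧
    (bigM P).index = eInd P + 2 ∧
    2 * (indSet P hfix hrank hSE M).card + 1 = eInd P ∧
    ((indSet P hfix hrank hSE M).card : ℤ) +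
      ∑ χ ∈ restSet P hfix hrank hSE M a, cInt χ a ^ 2 = eInd P ∧
    ∀ χ ∈ restSet P hfix hrank hSE M a,
      cInt χ a < 0 ∧ (charDegree (χ : G → ℂ) : ℤ) = -((eInd P : ℤ) * cInt χ a) := by
  classical
  haveI : Fact (Nat.Prime 2) := ⟨Nat.prime_two⟩
  set e := eInd P with he
  set q := Nat.card (P : Subgroup G) with hq
  set I := indSet P hfix hrank hSE M with hI
  set R := restSet P hfix hrank hSE M a with hR
  set N := (bigM P).index with hN
  have hΩ : omega P = (P : Subgroup G) := le_antisymm (omega_le P) fun v hv =>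
    ⟨hv, sq_eq_one hfix hrank hab hSE hM hv⟩
  have hqe : q = e + 1 := by rw [he, eInd_eq hfix hSE ha ha1, hΩ]
  have he3 : 7 ≤ e := by rw [hΩ, ← hq, hqe] at hrank; omega
  have hval : ∀ χ : IrrCharacter G, ∀ y : (P : Subgroup G), y ≠ 1 →
      (χ : G → ℂ) y = cInt χ a := by
    intro χ y hy
    obtain ⟨n, -, hne⟩ := exists_normalizer_conj hfix hSE ha ha1 (b := (y : G))
      (by rw [hΩ]; exact y.2) fun h => hy (Subtype.ext h)
    rw [← hne, IsIrr.isClassFunction χ.2, cInt_spec χ ha.2]
  -- the column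
  have hsq : 1 + ((I.card : ℤ) + ∑ χ ∈ R, cInt χ a ^ 2) = q := by
    have h := column_sq hfix hM ha.1 ha1
    rw [Finset.sum_congr rfl fun χ _ => by rw [cInt_spec χ ha.2, map_intCast, ← pow_two]] at h
    have h2 : ∑ χ ∈ b0 G M, cInt χ a ^ 2 = (q : ℤ) := by exact_mod_cast h
    rw [sum_split hfix hrank hSE hM ha (fun χ => cInt χ a ^ 2) fun χ h0 => by rw [h0]; rfl,
      cInt_trivial a ha.2, one_pow, Finset.sum_congr rfl (g := fun _ => (1 : ℤ)) fun χ hχ => by
        rw [(indSet_props hfix hrank hSE ha ha1 hχ).1, one_pow], Finset.sum_const, nsmul_one] at h2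
    exact h2
  have hR2 : ((I.card : ℤ) + ∑ χ ∈ R, cInt χ a ^ 2) = e := by rw [hqe] at hsq; push_cast at hsq; omega
  -- the class equation
  set C : ℝ := ∑ χ ∈ b0 G M, (cInt χ a : ℝ) ^ 3 / (charDegree (χ : G → ℂ) : ℝ) with hC
  have hO : Nat.card (pPrimeCore 2 (centralizer ({a} : Set G))) = Nat.card (oddAt a) := by
    rw [oddAt, card_map_of_injective (subtype_injective _)]
  set w := (centralizer ({a} : Set G)).index with hw
  have hwO : w * Nat.card (oddAt a) * q = Nat.card G := by
    rw [mul_assoc, ← card_centralizer hfix ha.1 ha1, index_mul_card]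
  have hG : Nat.card G = N * (e * (Nat.card (bigW P) * q)) := by
    rw [← index_mul_card (bigM P), card_bigM hfix hrank, card_bigK hfix hrank]
  have hwO2 : w * Nat.card (oddAt a) = N * (e * Nat.card (bigW P)) := by
    refine Nat.eq_of_mul_eq_mul_right (Nat.card_pos (α := (P : Subgroup G))) ?_
    rw [hwO, hG]; ring
  have hpair : (q : ℝ) * (npairs 2 a a a : ℝ) = (w : ℝ) * C := by
    have h := card_mul_npairs hM (H86.Abelian.exists_orderOf P ⟨a, ha.1⟩)
      (H86.Abelian.pNilAt_of_mem P hfix ha.1 ha1) a a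
    rw [← Finset.sum_filter, ← b0, hO, Finset.sum_congr rfl
      (g := fun χ => ((cInt χ a : ℂ)) ^ 3 / (charDegree (χ : G → ℂ) : ℂ)) fun χ _ => by
        rw [cInt_spec χ ha.2, map_intCast, apply_one_eq_charDegree]; ring, ← hw, ← hwO] at h
    apply Complex.ofReal_injective
    rw [hC]
    push_cast
    refine mul_left_cancel₀ (mul_ne_zero (Nat.cast_ne_zero.2 (index_ne_zero_of_finite (H := centralizer ({a} : Set G))))
      (Nat.cast_ne_zero.2 (Nat.card_pos (α := oddAt a)).ne') : ((w : ℂ) * (Nat.card (oddAt a) : ℂ)) ≠ 0) ?_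
    push_cast at h
    linear_combination h
  have hup : C * N * e ≤ (q : ℝ) * ((e : ℝ) - 1) := by
    have hb : ((npairs 2 a a a : ℝ)) * (Nat.card (oddAt a) : ℝ) + (Nat.card (bigW P) : ℝ) ≤
        (e : ℝ) * (Nat.card (bigW P) : ℝ) := by
      exact_mod_cast npairs_mul_le hfix hrank hSE ha ha1 ha ha1
    have hWpos : (0 : ℝ) < Nat.card (bigW P) := by exact_mod_cast Nat.card_pos
    refine le_of_mul_le_mul_right ?_ hWpos
    have h1 : C * N * e * (Nat.card (bigW P) : ℝ) =
        (q : ℝ) * ((npairs 2 a a a : ℝ) * (Nat.card (oddAt a) : ℝ)) := by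
      have hwR : (w : ℝ) * (Nat.card (oddAt a) : ℝ) = N * (e * (Nat.card (bigW P) : ℝ)) := by
        exact_mod_cast hwO2
      calc C * N * e * (Nat.card (bigW P) : ℝ) = C * (N * (e * (Nat.card (bigW P) : ℝ))) := by ring
        _ = (w : ℝ) * C * (Nat.card (oddAt a) : ℝ) := by rw [← hwR]; ring
        _ = _ := by rw [← hpair]; ring
    rw [h1]
    have := mul_le_mul_of_nonneg_left hb (show (0 : ℝ) ≤ q by positivity)
    linarith
  -- the lower bound
  set s : ℝ := ∑ χ ∈ R, ((cInt χ a : ℝ) ^ 3 / (charDegree (χ : G → ℂ) : ℝ) +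
    (cInt χ a : ℝ) ^ 2 / (e : ℝ)) with hs
  have heR : (7 : ℝ) ≤ e := by exact_mod_cast he3
  have hterm : ∀ χ ∈ R, 0 ≤ (cInt χ a : ℝ) ^ 3 / (charDegree (χ : G → ℂ) : ℝ) +
      (cInt χ a : ℝ) ^ 2 / (e : ℝ) := by
    intro χ _
    have hn := neg_degree_le (hval χ)
    rw [show ((Nat.card (P : Subgroup G) : ℤ) - 1) = (e : ℤ) by rw [← hq, hqe]; push_cast; ring] at hn
    have h := cube_div_ge (q := (e : ℝ) + 1) (a := (cInt χ a : ℝ))
      (f := (charDegree (χ : G → ℂ) : ℝ)) (by linarith) (by exact_mod_cast charDegree_pos χ)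
      (by rw [add_sub_cancel_right]; exact_mod_cast hn)
    rw [add_sub_cancel_right] at h
    linarith
  have hCeq : C = (I.card : ℝ) / N + (I.card : ℝ) / e + s := by
    rw [hC, sum_split hfix hrank hSE hM ha _ fun χ h0 => by simp [h0], cInt_trivial a ha.2,
      Finset.sum_congr rfl (g := fun _ => (1 : ℝ) / N) fun χ hχ => by
        obtain ⟨h1, h2⟩ := indSet_props hfix hrank hSE ha ha1 hχ
        rw [h1, h2, Int.cast_one, one_pow],
      Finset.sum_const, nsmul_eq_mul, hs, Finset.sum_add_distrib, ← Finset.sum_div]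
    have h1 : (charDegree ((trivialIrr : IrrCharacter G) : G → ℂ) : ℝ) = 1 := by
      have h := apply_one_eq_charDegree (trivialIrr : IrrCharacter G)
      have h2 : ((charDegree ((trivialIrr : IrrCharacter G) : G → ℂ) : ℕ) : ℂ) = 1 := h.symm
      exact_mod_cast h2
    have h2 : (I.card : ℝ) + ∑ χ ∈ R, (cInt χ a : ℝ) ^ 2 = e := by exact_mod_cast hR2
    rw [h1, show ∑ χ ∈ R, (cInt χ a : ℝ) ^ 2 = (e : ℝ) - I.card by linarith]
    push_cast
    field_simp
    ring
  have hs0 : 0 ≤ s := Finset.sum_nonneg hterm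
  obtain ⟨hN1, k, hNk⟩ := index_bigM hfix hSE
  rw [← hN] at hN1 hNk
  have hNq : q + 1 ≤ N := by
    rcases Nat.eq_zero_or_pos k with rfl | hk
    · omega
    · rw [← hq] at hNk
      have := Nat.mul_le_mul_left q hk
      omega
  have hNR : (e : ℝ) + 2 ≤ N := by exact_mod_cast (show e + 2 ≤ N by omega)
  have hexp : (I.card : ℝ) * ((e : ℝ) + N) + s * N * e ≤ ((e : ℝ) + 1) * ((e : ℝ) - 1) := by
    have hN0 : (N : ℝ) ≠ 0 := by linarith
    have he0 : (e : ℝ) ≠ 0 := by linarith
    have h1 : C * N * e = (I.card : ℝ) * ((e : ℝ) + N) + s * N * e := by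
      rw [hCeq]; field_simp
    rw [hqe] at hup
    push_cast at hup
    linarith
  have hIge : (e : ℝ) ≤ 2 * (I.card : ℝ) + 1 := by
    have h := card_indIrr_ge hfix hrank hab hSE
    rw [Nat.card_eq_fintype_card, ← Set.toFinset_card] at h
    have hIc : (Set.range (indIrr P hfix hrank hSE)).toFinset.card = I.card := by
      congr 1
      ext χ
      rw [Set.mem_toFinset, hI, mem_indSet]
      exact ⟨fun hχ => ⟨by obtain ⟨l, rfl⟩ := hχ; exact indIrr_mem hfix hrank hSE hM l, hχ⟩,
        And.right⟩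
    rw [hIc] at h
    exact_mod_cast h
  have hI0 : 0 ≤ (2 * (I.card : ℝ) + 1 - e) * ((e : ℝ) + N) :=
    mul_nonneg (by linarith) (by linarith)
  have hsN : 0 ≤ s * N * e := by positivity
  have h3 : (2 * (I.card : ℝ) + 1 - e) * ((e : ℝ) + N) + ((e : ℝ) - 1) * ((N : ℝ) - e - 2) +
      2 * (s * N * e) ≤ 0 := by linarith
  have h4 : 0 ≤ ((e : ℝ) - 1) * ((N : ℝ) - e - 2) := mul_nonneg (by linarith) (by linarith)
  have hNe : (N : ℝ) = e + 2 := by
    have : ((e : ℝ) - 1) * ((N : ℝ) - e - 2) = 0 := by linarith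
    rcases mul_eq_zero.1 this with h | h <;> linarith
  have hIe : 2 * (I.card : ℝ) + 1 = e := by
    have : (2 * (I.card : ℝ) + 1 - e) * ((e : ℝ) + N) = 0 := by linarith
    rcases mul_eq_zero.1 this with h | h <;> linarith
  have hsz : s = 0 := by
    have : s * N * e = 0 := by linarith
    rcases mul_eq_zero.1 this with h | h
    · rcases mul_eq_zero.1 h with h | h
      · exact h
      · linarith
    · linarith
  refine ⟨hqe, by exact_mod_cast hNe, by exact_mod_cast hIe, hR2, fun χ hχ => ?_⟩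
  have hz := (Finset.sum_eq_zero_iff_of_nonneg hterm).1 (hs ▸ hsz) χ hχ
  have hc0 : (cInt χ a : ℝ) ≠ 0 := Int.cast_ne_zero.2 ((mem_restSet hfix hrank hSE).1 hχ).2.1
  have hfpos : (0 : ℝ) < charDegree (χ : G → ℂ) := by exact_mod_cast charDegree_pos χ
  rw [div_add_div _ _ hfpos.ne' (by linarith), div_eq_zero_iff] at hz
  have hz' : (cInt χ a : ℝ) * e + (charDegree (χ : G → ℂ) : ℝ) = 0 := by
    have := hz.resolve_right (mul_ne_zero hfpos.ne' (by linarith))
    have h2 : (cInt χ a : ℝ) ^ 2 * ((cInt χ a : ℝ) * e + (charDegree (χ : G → ℂ) : ℝ)) = 0 := by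
      rw [← this]; ring
    exact (mul_eq_zero.1 h2).resolve_left (pow_ne_zero 2 hc0)
  have hz'' : cInt χ a * e + (charDegree (χ : G → ℂ) : ℤ) = 0 := by exact_mod_cast hz'
  refine ⟨?_, by linarith⟩
  have hp : (0 : ℤ) < charDegree (χ : G → ℂ) := by exact_mod_cast charDegree_pos χ
  by_contra hge
  have := mul_nonneg (not_lt.1 hge) (show (0 : ℤ) ≤ e by positivity)
  linarith

end Cfsg.Agent.H29.AbTwo
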