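import Cfsg.Agent.H29.AbTwo.Orders
import Cfsg.Agent.H29.AbTwo.Equation
import Cfsg.Agent.H38.Invert

/-!
# Bounding the pairs of involutions
-/

set_option autoImplicit false
set_option linter.unusedSectionVars false
set_option linter.style.haveILetI false

namespace Cfsg.Agent.H29.AbTwo

open Subgroup

universe u

variable {G : Type u} [Group G] [Finite G]

/-- The product `u v u` of two inverted elements determines them. -/
theorem uvu_injective {W : Subgroup G} (hodd : Odd (Nat.card W)) {y u u' v v' : G}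
    (hu : u ∈ W) (hu' : u' ∈ W) (hv : v ∈ W)
    (hyu : y * u * y⁻¹ = u⁻¹) (hyu' : y * u' * y⁻¹ = u'⁻¹)
    (hyv : y * v * y⁻¹ = v) (hyv' : y * v' * y⁻¹ = v')
    (h : u * v * u = u' * v' * u') : u = u' ∧ v = v' := by
  set s := u'⁻¹ * u with hs
  set r := u * u'⁻¹ with hr
  have h1 : v' = s * v * r := by
    calc v' = u'⁻¹ * (u' * v' * u') * u'⁻¹ := by group
      _ = u'⁻¹ * (u * v * u) * u'⁻¹ := by rw [h]
      _ = _ := by rw [hs, hr]; group
  have h2 : v' = r⁻¹ * v * s⁻¹ := by
    have e1 : y * s * y⁻¹ = r⁻¹ := by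
      rw [hs, hr, ← conj_mul, ← conj_inv, hyu', hyu]; group
    have e2 : y * r * y⁻¹ = s⁻¹ := by
      rw [hs, hr, ← conj_mul, ← conj_inv, hyu', hyu]; group
    calc v' = y * v' * y⁻¹ := hyv'.symm
      _ = y * (s * v * r) * y⁻¹ := by rw [← h1]
      _ = (y * s * y⁻¹) * (y * v * y⁻¹) * (y * r * y⁻¹) := by group
      _ = _ := by rw [e1, e2, hyv]
  set g := r * s with hg
  have hgv : g * v * g = v * (1 : G) := by
    have e : s * v * r = r⁻¹ * v * s⁻¹ := h1.symm.trans h2
    calc g * v * g = r * (s * v * r) * s := by rw [hg]; group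
      _ = r * (r⁻¹ * v * s⁻¹) * s := by rw [e]
      _ = _ := by group
  have hgW : g ∈ W := mul_mem (mul_mem hu (inv_mem hu')) (mul_mem (inv_mem hu') hu)
  have h3 : g * v = v := H38.eq_of_mul_self_eq hodd (mul_mem hgW hv) hv (by
    rw [mul_one] at hgv
    calc g * v * (g * v) = g * v * g * v := by group
      _ = v * v := by rw [hgv])
  have h4 : g = 1 := mul_eq_right.1 h3
  have h5 : u * u = u' * u' := by
    rw [hg, hr, hs] at h4
    have h6 : u * u'⁻¹ * u'⁻¹ * u = 1 := by simpa [mul_assoc] using h4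
    have h7 : u'⁻¹ * u'⁻¹ = u⁻¹ * u⁻¹ := by
      calc u'⁻¹ * u'⁻¹ = u⁻¹ * (u * u'⁻¹ * u'⁻¹ * u) * u⁻¹ := by group
        _ = _ := by rw [h6]; group
    have := congrArg (·⁻¹) h7
    simpa [mul_inv_rev] using this.symm
  obtain rfl := H38.eq_of_mul_self_eq hodd hu hu' h5
  refine ⟨rfl, ?_⟩
  calc v = u⁻¹ * (u * v * u) * u⁻¹ := by group
    _ = _ := by rw [h]; group

variable {P : Sylow 2 G} [IsMulCommutative (P : Subgroup G)]
variable (hfix : H86.Abelian.FreeFusion P) (hrank : 8 ≤ Nat.card (omega P))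
variable (hSE : IsStronglyEmbedded (bigM P))

include hfix in
theorem oddAt_norm {z a : G} (hz : z ∈ (P : Subgroup G)) (ha : a ∈ omega P) (ha1 : a ≠ 1) :
    ∀ k ∈ oddAt a, z * k * z⁻¹ ∈ oddAt a := by
  intro k hk
  have hn := H86.Abelian.pNilAt_of_mem P hfix ha.1 ha1
  have hc : z * a * z⁻¹ = a := by
    rw [H86.Abelian.mul_comm_sylow P hz ha.1, mul_inv_cancel_right]
  have := conj_oddAt z hn (by rwa [hc]) hk
  rwa [hc] at this

include hfix hSE in
theorem card_oddAt_eq {a b : G} (ha : a ∈ omega P) (ha1 : a ≠ 1) (hb : b ∈ omega P)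
    (hb1 : b ≠ 1) : Nat.card (oddAt a) = Nat.card (oddAt b) := by
  haveI : Fact (Nat.Prime 2) := ⟨Nat.prime_two⟩
  obtain ⟨n, -, e⟩ := exists_normalizer_conj hfix hSE ha ha1 hb hb1
  have hna := H86.Abelian.pNilAt_of_mem P hfix ha.1 ha1
  have hnb := H86.Abelian.pNilAt_of_mem P hfix hb.1 hb1
  refine Nat.card_congr
    { toFun := fun k => ⟨n * k * n⁻¹, e ▸ conj_oddAt n hna (e ▸ hnb) k.2⟩
      invFun := fun k => ⟨n⁻¹ * k * n, ?_⟩
      left_inv := fun k => Subtype.ext (by group)
      right_inv := fun k => Subtype.ext (by group) }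
  have e' : n⁻¹ * b * n⁻¹⁻¹ = a := by rw [← e]; group
  have h := conj_oddAt n⁻¹ hnb (e'.symm ▸ hna) k.2
  rw [e'] at h
  simpa using h

include hfix hrank hSE in
/-- The central inequality. -/
theorem sq_inverted_mul_le {x y : G} (hx : x ∈ omega P) (hx1 : x ≠ 1) (hy : y ∈ omega P)
    (hy1 : y ≠ 1) (hxy : y ≠ x) :
    Nat.card (invertedBy (oddAt x) y) * Nat.card (invertedBy (oddAt x) y) * Nat.card (oddAt x) ≤
      Nat.card (bigW P) := by
  classical
  obtain ⟨hW, hWC⟩ := closure_spec hfix hrank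
  have hx2 : x * x = 1 := by rw [← pow_two]; exact hx.2
  have hy2 : y * y = 1 := by rw [← pow_two]; exact hy.2
  set z := x * y with hz
  have hzΩ : z ∈ omega P := mul_mem hx hy
  have hz1 : z ≠ 1 := fun e => hxy (by
    calc y = x * x * y := by rw [hx2, one_mul]
      _ = x := by rw [mul_assoc, ← hz, e, mul_one])
  have hcomm : x * y = y * x := H86.Abelian.mul_comm_sylow P hx.1 hy.1
  set R := bigW P ⊓ centralizer ({x} : Set G) ⊓ centralizer ({y} : Set G)
  have hcz : centralizer ({z} : Set G) ⊓ centralizer ({x} : Set G) =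
      centralizer ({x} : Set G) ⊓ centralizer ({y} : Set G) := by
    ext g
    simp only [mem_inf, mem_centralizer_singleton_iff]
    constructor
    · rintro ⟨h1, h2⟩
      refine ⟨h2, ?_⟩
      calc g * y = g * x * z := by rw [hz, mul_assoc, ← mul_assoc x, hx2, one_mul]
        _ = x * g * z := by rw [h2]
        _ = x * (z * g) := by rw [mul_assoc, h1]
        _ = y * g := by rw [← mul_assoc, hz, ← mul_assoc x, hx2, one_mul]
    · rintro ⟨h2, h1⟩
      exact ⟨by rw [hz, ← mul_assoc, h2, mul_assoc, h1, mul_assoc], h2⟩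
  have hA : Nat.card (oddAt y) = Nat.card R * Nat.card (invertedBy (oddAt y) x) := by
    rw [H38.card_decomp hx2 (odd_card_oddAt y) (oddAt_norm hfix hx.1 hy hy1)]
    congr 2
    rw [← hWC y hy hy1, inf_right_comm]
  have hB : Nat.card (oddAt z) = Nat.card R * Nat.card (invertedBy (oddAt z) x) := by
    rw [H38.card_decomp hx2 (odd_card_oddAt z) (oddAt_norm hfix hx.1 hzΩ hz1)]
    congr 2
    rw [← hWC z hzΩ hz1, inf_assoc, hcz, ← inf_assoc]
  have hX : Nat.card (oddAt x) = Nat.card R * Nat.card (invertedBy (oddAt x) y) := by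
    rw [H38.card_decomp hy2 (odd_card_oddAt x) (oddAt_norm hfix hy.1 hx hx1)]
    congr 2
    rw [← hWC x hx hx1]
  have hW' : Nat.card (bigW P) = Nat.card (oddAt x) * Nat.card (invertedBy (bigW P) x) := by
    rw [H38.card_decomp hx2 hW (fun k hk =>
      (mem_normalizer_iff.1 (conj_mem_bigW hfix (le_normalizer hx.1)) k).1 hk), hWC x hx hx1]
  have hinj : Nat.card (invertedBy (oddAt z) x) * Nat.card (invertedBy (oddAt y) x) ≤
      Nat.card (invertedBy (bigW P) x) := by
    rw [← Nat.card_prod]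
    have hmem : ∀ u : invertedBy (oddAt z) x, (u : G) ∈ bigW P := fun u =>
      oddAt_le_bigW_omega hzΩ hz1 u.2.1
    have hmem' : ∀ v : invertedBy (oddAt y) x, (v : G) ∈ bigW P := fun v =>
      oddAt_le_bigW_omega hy hy1 v.2.1
    have hyv : ∀ v : invertedBy (oddAt y) x, y * (v : G) * y⁻¹ = v := fun v => by
      rw [← mem_centralizer_singleton_iff.1 (oddAt_le y v.2.1), mul_inv_cancel_right]
    have hyu : ∀ u : invertedBy (oddAt z) x, y * (u : G) * y⁻¹ = (u : G)⁻¹ := fun u => by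
      have h1 : z * (u : G) * z⁻¹ = u := by
        rw [← mem_centralizer_singleton_iff.1 (oddAt_le z u.2.1), mul_inv_cancel_right]
      have hyz : y = x * z := by rw [hz, ← mul_assoc, hx2, one_mul]
      calc y * (u : G) * y⁻¹ = x * (z * (u : G) * z⁻¹) * x⁻¹ := by rw [hyz]; group
        _ = _ := by rw [h1]; exact u.2.2
    refine Nat.card_le_card_of_injective (fun p =>
      (⟨(p.1 : G) * p.2 * p.1, mul_mem (mul_mem (hmem p.1) (hmem' p.2)) (hmem p.1), ?_⟩ :
        invertedBy (bigW P) x)) ?_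
    · show x * ((p.1 : G) * p.2 * p.1) * x⁻¹ = ((p.1 : G) * p.2 * p.1)⁻¹
      rw [← conj_mul, ← conj_mul, p.1.2.2, p.2.2.2]
      simp [mul_assoc]
    · rintro ⟨u, v⟩ ⟨u', v'⟩ e
      obtain ⟨e1, e2⟩ := uvu_injective hW (hmem u) (hmem u') (hmem' v) (hyu u) (hyu u') (hyv v)
        (hyv v') (congrArg Subtype.val e)
      exact Prod.ext (Subtype.ext e1) (Subtype.ext e2)
  have hR : 0 < Nat.card R := Nat.card_pos
  rw [card_oddAt_eq hfix hSE hy hy1 hx hx1, hX] at hA
  rw [card_oddAt_eq hfix hSE hzΩ hz1 hx hx1, hX] at hB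
  rw [← Nat.eq_of_mul_eq_mul_left hR hA, ← Nat.eq_of_mul_eq_mul_left hR hB] at hinj
  rw [hW', mul_comm (Nat.card (oddAt x))]
  exact Nat.mul_le_mul_right _ hinj

include hfix hrank hSE in
/-- The bound on the pairs. -/
theorem npairs_mul_le {a x : G} (ha : a ∈ omega P) (ha1 : a ≠ 1) (hx : x ∈ omega P) (hx1 : x ≠ 1) :
    npairs 2 a a x * Nat.card (oddAt a) + Nat.card (bigW P) ≤ eInd P * Nat.card (bigW P) := by
  classical
  haveI : Fact (Nat.Prime 2) := ⟨Nat.prime_two⟩
  have hx2 : x * x = 1 := by rw [← pow_two]; exact hx.2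
  have hxo : orderOf x = 2 := orderOf_omega hx hx1
  have hao : orderOf a = 2 := orderOf_omega ha ha1
  have hnx := H86.Abelian.pNilAt_of_mem P hfix hx.1 hx1
  let Y := {y : omega P // (y : G) ≠ 1 ∧ (y : G) ≠ x}
  have hdata : ∀ q : (Σ c : {c : centralizer ({x} : Set G) // ¬ 2 ∣ orderOf c},
      {u : G // IsConj a u ∧ IsConj a (u⁻¹ * (x * (c.1 : G)))}),
      ∃ (y : Y) (k : invertedBy (oddAt x) (y.1 : G)) (t : invertedBy (oddAt x) (y.1 : G)),
        q.2.1 = (k : G) * y.1 ∧
          (q.1.1 : G) = H38.rt (oddAt x) (k : G) * t * (H38.rt (oddAt x) (k : G))⁻¹ := by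
    rintro ⟨⟨⟨s, hsC⟩, hs⟩, u, hu1, hu2⟩
    have hso : Odd (orderOf s) := by
      rw [orderOf_mk] at hs; rw [Nat.odd_iff]; omega
    have hsK : s ∈ oddAt x := (mem_oddAt_iff hnx).2 ⟨mem_centralizer_singleton_iff.1 hsC, hso⟩
    have hconj : ∀ {v : G}, IsConj a v → v * v = 1 ∧ v ≠ 1 := fun {v} hv => by
      obtain ⟨g, rfl⟩ := isConj_iff.1 hv
      exact ⟨by rw [← pow_two, conj_pow, ha.2, mul_one, mul_inv_cancel],
        fun e => ha1 (conj_eq_one_iff.1 e)⟩
    obtain ⟨huu, hu_ne⟩ := hconj hu1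
    obtain ⟨hbb, -⟩ := hconj hu2
    have huinv : u⁻¹ = u := inv_eq_of_mul_eq_one_right huu
    simp only [huinv] at hbb hu2
    have hinvert : u * (x * s) * u⁻¹ = (x * s)⁻¹ := by
      rw [huinv, eq_inv_iff_mul_eq_one]
      simpa [mul_assoc] using hbb
    have hsx : Commute x s := (mem_centralizer_singleton_iff.1 hsC).symm
    have hux : u * x * u⁻¹ = x := by
      have e1 : BlockBasic.pPart (p := 2) (u * (x * s) * u⁻¹) = u * x * u⁻¹ := by
        rw [BlockBasic.pPart_conj, BlockBasic.pPart_mul_of hsx ⟨1, hxo⟩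
          (by rw [Nat.odd_iff] at hso; omega)]
      have e2 : (x * s)⁻¹ = x * s⁻¹ := by
        rw [hsx.eq, mul_inv_rev, inv_eq_of_mul_eq_one_right hx2]
      rw [hinvert, e2, BlockBasic.pPart_mul_of hsx.inv_right ⟨1, hxo⟩
        (by rw [orderOf_inv]; rw [Nat.odd_iff] at hso; omega)] at e1
      exact e1.symm
    have huC : u ∈ centralizer ({x} : Set G) :=
      mem_centralizer_singleton_iff.2 (mul_inv_eq_iff_eq_mul.1 hux)
    obtain ⟨k, hk, y, hy, rfl⟩ := centralizer_eq hfix hx.1 hx1 huC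
    have hnorm := oddAt_norm hfix hy hx hx1
    have hyy : y * y = 1 := by
      refine eq_one_of_odd_sylow (odd_card_oddAt x) ?_ (mul_mem hy hy)
      have : y * y = (k * (y * k * y⁻¹))⁻¹ * (k * y * (k * y)) := by group
      rw [this, huu, mul_one]
      exact inv_mem (mul_mem hk (hnorm k hk))
    have hyΩ : y ∈ omega P := ⟨hy, by rw [pow_two]; exact hyy⟩
    have hkinv : y * k * y⁻¹ = k⁻¹ := by
      rw [inv_eq_of_mul_eq_one_right hyy, eq_inv_iff_mul_eq_one]
      have := huu
      calc y * k * y * k = k⁻¹ * (k * y * (k * y)) * k := by group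
        _ = 1 := by rw [huu]; group
    have hsinv : k * y * s * (k * y)⁻¹ = s⁻¹ := by
      have e2 : (x * s)⁻¹ = x * s⁻¹ := by
        rw [hsx.eq, mul_inv_rev, inv_eq_of_mul_eq_one_right hx2]
      rw [← conj_mul, hux, e2] at hinvert
      exact mul_left_cancel hinvert
    have hy1 : y ≠ 1 := fun e => by
      subst e
      rw [mul_one] at huu hu_ne
      exact hu_ne (H38.eq_one_of_mul_self_eq_one (odd_card_oddAt x) hk huu)
    have hyx : y ≠ x := fun e => by
      subst e
      have hk1 : k = 1 := by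
        refine H38.eq_one_of_mul_self_eq_one (odd_card_oddAt y) hk ?_
        have hc := mem_centralizer_singleton_iff.1 (oddAt_le y hk)
        calc k * k = k * k * (y * y) := by rw [hyy, mul_one]
          _ = k * (k * y) * y := by group
          _ = k * (y * k) * y := by rw [hc]
          _ = k * y * (k * y) := by group
          _ = 1 := huu
      subst hk1
      rw [one_mul, ← mul_assoc, hx2, one_mul] at hu2
      obtain ⟨g, hg⟩ := isConj_iff.1 hu2
      rw [← hg, ← MulAut.conj_apply, MulEquiv.orderOf_eq, hao] at hso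
      exact absurd hso (by decide)
    set r := H38.rt (oddAt x) k with hr
    have hrr : r * r = k := H38.rt_mul_self (odd_card_oddAt x) hk
    have hrK : r ∈ oddAt x := H38.rt_mem hk
    have hry : y * r * y⁻¹ = r⁻¹ := by rw [hr, H38.conj_rt, hkinv, H38.rt_inv]
    refine ⟨⟨⟨y, hyΩ⟩, hy1, hyx⟩, ⟨k, hk, hkinv⟩,
      ⟨r⁻¹ * s * r, mul_mem (mul_mem (inv_mem hrK) hsK) hrK, ?_⟩, rfl, ?_⟩
    · show y * (r⁻¹ * s * r) * y⁻¹ = (r⁻¹ * s * r)⁻¹
      rw [← conj_mul, ← conj_mul, ← conj_inv, hry, inv_inv]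
      have e : y * s * y⁻¹ = k⁻¹ * s⁻¹ * k := by rw [← hsinv]; group
      rw [e, ← hrr]; group
    · show s = r * (r⁻¹ * s * r) * r⁻¹
      group
  choose fy fk ft hfu hfs using hdata
  let F : (Σ c : {c : centralizer ({x} : Set G) // ¬ 2 ∣ orderOf c},
      {u : G // IsConj a u ∧ IsConj a (u⁻¹ * (x * (c.1 : G)))}) →
      Σ y : Y, invertedBy (oddAt x) (y.1 : G) × invertedBy (oddAt x) (y.1 : G) :=
    fun q => ⟨fy q, fk q, ft q⟩
  let back : (Σ y : Y, invertedBy (oddAt x) (y.1 : G) × invertedBy (oddAt x) (y.1 : G)) → G × G :=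
    fun r => (H38.rt (oddAt x) (r.2.1 : G) * r.2.2 * (H38.rt (oddAt x) (r.2.1 : G))⁻¹,
      (r.2.1 : G) * r.1.1)
  have hback : ∀ q, back (F q) = ((q.1.1 : G), q.2.1) := fun q =>
    Prod.ext (hfs q).symm (hfu q).symm
  have hinj : Function.Injective F := by
    rintro ⟨⟨⟨s, hs⟩, hs'⟩, u, hu⟩ ⟨⟨⟨s', hs1⟩, hs1'⟩, u', hu'⟩ e
    have h := congrArg back e
    rw [hback, hback] at h
    obtain ⟨rfl, rfl⟩ : s = s' ∧ u = u' := Prod.ext_iff.1 h
    rfl
  haveI : Fintype Y := Fintype.ofFinite _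
  have hle : npairs 2 a a x ≤ ∑ y : Y,
      Nat.card (invertedBy (oddAt x) (y.1 : G)) * Nat.card (invertedBy (oddAt x) (y.1 : G)) := by
    refine (Nat.card_le_card_of_injective F hinj).trans ?_
    rw [Nat.card_sigma]
    exact Finset.sum_le_sum fun y _ => by rw [Nat.card_prod]
  have hY : Nat.card Y + 1 ≤ eInd P := by
    have h := eInd_eq hfix hSE hx hx1
    let f : Option (Option Y) → omega P := fun o =>
      o.elim 1 fun o' => o'.elim ⟨x, hx⟩ fun y => y.1
    have hf : Function.Injective f := by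
      intro o o' e
      have e' : ((f o : omega P) : G) = (f o' : G) := congrArg Subtype.val e
      rcases o with _ | _ | y <;> rcases o' with _ | _ | y'
      · rfl
      · exact absurd e'.symm hx1
      · exact absurd e'.symm y'.2.1
      · exact absurd e' hx1
      · rfl
      · exact absurd e'.symm y'.2.2
      · exact absurd e' y.2.1
      · exact absurd e' y.2.2
      · exact congrArg (fun y => some (some y)) (Subtype.ext (Subtype.ext e'))
    have := Nat.card_le_card_of_injective f hf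
    simp only [Nat.card_eq_fintype_card, Fintype.card_option] at this h ⊢
    omega
  rw [card_oddAt_eq hfix hSE ha ha1 hx hx1]
  calc npairs 2 a a x * Nat.card (oddAt x) + Nat.card (bigW P)
      ≤ (∑ y : Y, Nat.card (invertedBy (oddAt x) (y.1 : G)) *
          Nat.card (invertedBy (oddAt x) (y.1 : G))) * Nat.card (oddAt x) + Nat.card (bigW P) :=
        Nat.add_le_add_right (Nat.mul_le_mul_right _ hle) _
    _ ≤ Nat.card Y * Nat.card (bigW P) + Nat.card (bigW P) := by
        refine Nat.add_le_add_right ?_ _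
        rw [Finset.sum_mul, Nat.card_eq_fintype_card (α := Y), ← Finset.card_univ, ← smul_eq_mul,
          ← Finset.sum_const]
        exact Finset.sum_le_sum fun y _ =>
          sq_inverted_mul_le hfix hrank hSE hx hx1 y.1.2 y.2.1 y.2.2
    _ ≤ eInd P * Nat.card (bigW P) := by
        rw [← Nat.succ_mul]; exact Nat.mul_le_mul_right _ hY

end Cfsg.Agent.H29.AbTwo
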