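import Cfsg.Agent.H29.AbTwo.Linear
import Cfsg.Agent.H29.AbTwo.Equation
import Cfsg.Agent.H29.AbTwo.Pairs
import Cfsg.Agent.CharInduce.Induce

/-!
# Principal characters on the Sylow subgroup and the induced principal characters
-/

set_option autoImplicit false
set_option linter.unusedSectionVars false
set_option linter.style.haveILetI false

open scoped ComplexConjugate

namespace Cfsg.Agent.H29.AbTwo

open Subgroup CharInduce CharBasic BlockBasic

universe u

variable {G : Type u} [Group G] [Fintype G] {M : Ideal AlgInt}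

variable (M G) in
open scoped Classical in
/-- The principal block as a finite set. -/
noncomputable def b0 : Finset (IrrCharacter G) :=
  Finset.univ.filter fun χ => χ ∈ principalBlock M G

theorem mem_b0 {χ : IrrCharacter G} : χ ∈ b0 G M ↔ χ ∈ principalBlock M G := by
  classical simp [b0]

theorem exists_int_omega {χ : G → ℂ} (hχ : IsIrrCharacter G χ) {x : G} (hx : x ^ 2 = 1) :
    ∃ v : ℤ, χ x = v := by
  classical
  obtain ⟨d, hd, hd1⟩ := IsIrr.exists_degree hχ
  by_cases hx1 : x = 1
  · exact ⟨d, by rw [hx1, hd1]; norm_num⟩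
  obtain ⟨m, hm⟩ := H83.sum_subgroup_eq (IsIrr.isCharacter hχ) (zpowers x)
  have hxo : orderOf x = 2 := orderOf_eq_prime hx hx1
  rw [Nat.card_zpowers, hxo] at hm
  have hne : (⟨x, mem_zpowers x⟩ : zpowers x) ≠ 1 := fun h => hx1 (congrArg Subtype.val h)
  have huniv : (Finset.univ : Finset (zpowers x)) = {1, ⟨x, mem_zpowers x⟩} := by
    symm
    refine Finset.eq_univ_of_card _ ?_
    rw [Finset.card_pair hne.symm, ← Nat.card_eq_fintype_card, Nat.card_zpowers, hxo]
  rw [huniv, Finset.sum_pair hne.symm, OneMemClass.coe_one, hd1] at hm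
  exact ⟨2 * m - d, by push_cast at hm ⊢; linear_combination hm⟩

variable {P : Sylow 2 G} [IsMulCommutative (P : Subgroup G)]
variable (hfix : H86.Abelian.FreeFusion P) (hrank : 8 ≤ Nat.card (omega P))
variable (hab : ∀ g ∈ normalizer ((P : Subgroup G) : Set G),
  ∀ h ∈ normalizer ((P : Subgroup G) : Set G),
    g * h * g⁻¹ * h⁻¹ ∈ centralizer ((P : Subgroup G) : Set G))
variable (hSE : IsStronglyEmbedded (bigM P))

include hfix in
/-- The column of a nontrivial element of the Sylow subgroup. -/
theorem column_sq (hM : IsPModular 2 M) {a : G} (ha : a ∈ (P : Subgroup G)) (ha1 : a ≠ 1) :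
    ∑ χ ∈ b0 G M, (χ : G → ℂ) a * conj ((χ : G → ℂ) a) = (Nat.card (P : Subgroup G) : ℂ) := by
  classical
  haveI : Fact (Nat.Prime 2) := ⟨Nat.prime_two⟩
  have h := H86.sum_sq_principal hM (H86.Abelian.exists_orderOf P ⟨a, ha⟩)
    (H86.Abelian.pNilAt_of_mem P hfix ha ha1)
  rw [blockKernel, finsum_mem_eq_finite_toFinset_sum _ (Set.toFinite _)] at h
  rw [show b0 G M = (Set.toFinite (principalBlock M G)).toFinset by ext; simp [mem_b0], h,
    card_centralizer hfix ha ha1]
  obtain ⟨k, hk⟩ := IsPGroup.iff_card.1 P.isPGroup'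
  rw [hk, Nat.factorization_mul Nat.card_pos.ne' (pow_ne_zero _ two_ne_zero), Finsupp.add_apply,
    Nat.factorization_eq_zero_of_not_dvd (by have := odd_card_oddAt a; rw [Nat.odd_iff] at this; omega),
    Nat.prime_two.factorization_pow, Finsupp.single_eq_same, zero_add]
  norm_num

include hfix hSE in
/-- An element conjugating a nontrivial element of the Sylow subgroup into the big subgroup. -/
theorem mem_bigM_of_conj {y x : G} (hy : y ∈ (P : Subgroup G)) (hy1 : y ≠ 1)
    (h : x⁻¹ * y * x ∈ bigM P) : x ∈ bigM P := by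
  obtain ⟨j, hj, hj1⟩ := exists_pow_omega hy hy1
  have h2 : x⁻¹ * y ^ j * x⁻¹⁻¹ ∈ bigM P := by
    rw [← conj_pow, inv_inv]; exact pow_mem h j
  exact inv_mem_iff.1 (H39.se_mem_of_conj hSE (orderOf_omega hj hj1) (sylow_le_bigM hj.1) h2)

include hfix hrank hSE in
theorem indLin_sylow {y : G} (hy : y ∈ (P : Subgroup G)) (hy1 : y ≠ 1) (l : Lin P) :
    indLin l y = 1 := by
  classical
  have hyK : y ∈ bigK P := mem_sup_right hy
  have hval : ∀ x : G, extendByZero (bigM P) (fun m => (l.1 m : ℂ)) (x⁻¹ * y * x) =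
      if x ∈ bigM P then 1 else 0 := by
    intro x
    split_ifs with hx
    · have hm : x⁻¹ * y * x ∈ bigM P := mul_mem (mul_mem (inv_mem hx) (sylow_le_bigM hy)) hx
      rw [extendByZero_of_mem _ hm]
      have hm' : x⁻¹ * y * x ∈ bigK P := by
        have h := (mem_normalizer_iff.1 (bigM_le_normalizer_bigK hfix (inv_mem hx)) y).1 hyK
        rwa [inv_inv] at h
      rw [l.2 ⟨_, hm⟩ hm', Units.val_one]
    · exact extendByZero_of_not_mem _ fun hm => hx (mem_bigM_of_conj hfix hSE hy hy1 hm)
  rw [indLin, indFun_apply, Finset.sum_congr rfl fun x _ => hval x, Finset.sum_boole,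
    ← Fintype.card_subtype, ← Nat.card_eq_fintype_card]
  exact inv_mul_cancel₀ (card_ne_zero_complex _)

include hfix hrank in
theorem lin_sq_ne {l : Lin P} (hl : l.1 ≠ 1) : ∃ m : bigM P, l.1 m * l.1 m ≠ 1 := by
  classical
  by_contra h
  push Not at h
  refine hl (MonoidHom.ext fun m => ?_)
  haveI : ((bigK P).subgroupOf (bigM P)).Normal := by
    rw [normal_subgroupOf_iff_le_normalizer (bigK_le hfix hrank)]
    exact bigM_le_normalizer_bigK hfix
  have hidx : ((bigK P).subgroupOf (bigM P)).index = eInd P := by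
    have h1 := ((bigK P).subgroupOf (bigM P)).index_mul_card
    rw [card_bigM hfix hrank,
      Nat.card_congr (subgroupOfEquivOfLe (bigK_le hfix hrank)).toEquiv] at h1
    exact Nat.eq_of_mul_eq_mul_right Nat.card_pos h1
  have he := l.2 (m ^ eInd P) (mem_subgroupOf.1 (hidx ▸ pow_index_mem _ m))
  rw [map_pow] at he
  obtain ⟨j, hj⟩ := odd_eInd (P := P)
  rw [hj, pow_succ, pow_mul, pow_two, h m, one_pow, one_mul] at he
  rw [he, MonoidHom.one_apply]

variable (P) in
/-- The induced irreducible character. -/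
noncomputable def indIrr (hfix : H86.Abelian.FreeFusion P) (hrank : 8 ≤ Nat.card (omega P))
    (hSE : IsStronglyEmbedded (bigM P)) (l : {l : Lin P // l.1 ≠ 1}) : IrrCharacter G :=
  ⟨indLin l.1, isIrr_of_norm_one (IsChar.ind _ (isCharacter_hom l.1.1))
    (by rw [classInner_indLin hfix hrank hSE l.1 l.1 (lin_sq_ne hfix hrank l.2), if_pos rfl])⟩

theorem indIrr_one (l : {l : Lin P // l.1 ≠ 1}) :
    (indIrr P hfix hrank hSE l : G → ℂ) 1 = ((bigM P).index : ℂ) := by
  show indLin l.1 1 = _
  rw [indLin, indFun_one, map_one, Units.val_one, mul_one]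

theorem indIrr_sylow (l : {l : Lin P // l.1 ≠ 1}) {y : G} (hy : y ∈ (P : Subgroup G))
    (hy1 : y ≠ 1) : (indIrr P hfix hrank hSE l : G → ℂ) y = 1 :=
  indLin_sylow hfix hrank hSE hy hy1 l.1

theorem exists_omega_ne_one (hrank : 8 ≤ Nat.card (omega P)) : ∃ a, a ∈ omega P ∧ a ≠ 1 := by
  obtain ⟨a, ha⟩ : ∃ a : omega P, a ≠ 1 := by
    haveI : Nontrivial (omega P) := Finite.one_lt_card_iff_nontrivial.1 (by omega)
    exact exists_ne 1
  exact ⟨a, a.2, fun e => ha (Subtype.ext e)⟩

include hfix hrank hSE in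
theorem indIrr_mem (hM : IsPModular 2 M) (l : {l : Lin P // l.1 ≠ 1}) :
    indIrr P hfix hrank hSE l ∈ principalBlock M G := by
  classical
  haveI : Fact (Nat.Prime 2) := ⟨Nat.prime_two⟩
  obtain ⟨a, ha, ha1⟩ := exists_omega_ne_one hrank
  have hn := H86.Abelian.pNilAt_of_mem P hfix ha.1 ha1
  have h := H86.sum_shift_regular hM (H86.Abelian.exists_orderOf P ⟨a, ha.1⟩) hn
    (indIrr P hfix hrank hSE l)
  by_contra hnot
  rw [if_neg hnot, mul_zero] at h
  rw [Finset.sum_congr rfl (g := fun c : centralizer ({a} : Set G) =>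
    if 2 ∣ orderOf c then (0 : ℂ) else 1) (fun c _ => ?_), Finset.sum_ite, Finset.sum_const_zero,
    zero_add, Finset.sum_const, nsmul_one, Nat.cast_eq_zero, Finset.card_eq_zero] at h
  · exact Finset.eq_empty_iff_forall_notMem.1 h 1 (Finset.mem_filter.2 ⟨Finset.mem_univ _, by simp⟩)
  · split_ifs with hc
    · rfl
    · exact indLin_section hfix hrank hSE ha ha1 ((mem_oddAt_iff hn).2
        ⟨mem_centralizer_singleton_iff.1 c.2, by
          rw [orderOf_coe, Nat.odd_iff]; omega⟩) l.1

include hfix hrank hab hSE in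
/-- The number of induced characters. -/
theorem card_indIrr_ge :
    eInd P ≤ 2 * Nat.card (Set.range (indIrr P hfix hrank hSE)) + 1 := by
  classical
  haveI : Finite (Lin P) := Nat.finite_of_card_ne_zero
    (by rw [card_lin hfix hrank hab]; exact eInd_pos.ne')
  cases nonempty_fintype (Lin P)
  rw [Nat.card_eq_fintype_card, ← Set.toFinset_card, Set.toFinset_range]
  let T : Finset {l : Lin P // l.1 ≠ 1} := Finset.univ
  have h1 : T.card + 1 = eInd P := by
    rw [← card_lin hfix hrank hab, Nat.card_eq_fintype_card]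
    let o : Lin P := ⟨1, fun _ _ => rfl⟩
    have : ∀ l : Lin P, l.1 ≠ 1 ↔ ¬ l = o := fun l =>
      ⟨fun h e => h (congrArg Subtype.val e), fun h e => h (Subtype.ext e)⟩
    show Fintype.card {l : Lin P // l.1 ≠ 1} + 1 = _
    rw [Fintype.card_congr (Equiv.subtypeEquivRight this), Fintype.card_subtype_compl,
      Fintype.card_subtype_eq]
    have := Fintype.card_pos_iff.2 ⟨o⟩
    omega
  have h2 : T.card ≤ 2 * (Finset.univ.image (indIrr P hfix hrank hSE)).card := by
    refine Finset.card_le_mul_card_image T 2 fun b hb => ?_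
    obtain ⟨l, -, rfl⟩ := Finset.mem_image.1 hb
    let inv : Lin P := ⟨l.1.1⁻¹, fun m hm => by rw [MonoidHom.inv_apply, l.1.2 m hm, inv_one]⟩
    refine le_trans (Finset.card_le_card
      (t := {l, ⟨inv, fun e => l.2 (MonoidHom.ext fun m =>
        inv_eq_one.1 (DFunLike.congr_fun e m))⟩}) fun l' hl' => ?_) Finset.card_le_two
    have he : indLin l'.1 = indLin l.1 := congrArg Subtype.val (Finset.mem_filter.1 hl').2
    rw [Finset.mem_insert, Finset.mem_singleton]
    by_cases hne : ∃ m : bigM P, l'.1.1 m * l.1.1 m ≠ 1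
    · left
      have h := classInner_indLin hfix hrank hSE l'.1 l.1 hne
      rw [he, classInner_indLin hfix hrank hSE l.1 l.1 (lin_sq_ne hfix hrank l.2), if_pos rfl] at h
      by_contra hll
      rw [if_neg fun e => hll (Subtype.ext e)] at h
      exact one_ne_zero h
    · right
      push Not at hne
      exact Subtype.ext (Subtype.ext (MonoidHom.ext fun m => eq_inv_of_mul_eq_one_left (hne m)))
  omega

include hfix hSE in
/-- The index of the big subgroup. -/
theorem index_bigM :
    1 < (bigM P).index ∧ ∃ k, (bigM P).index = 1 + Nat.card (P : Subgroup G) * k := by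
  classical
  refine ⟨Subgroup.one_lt_index_of_ne_top hSE.1, ?_⟩
  let c1 : G ⧸ bigM P := QuotientGroup.mk 1
  have hfix1 : ∀ y : (P : Subgroup G), y • c1 = c1 := fun y => by
    show (y : G) • c1 = c1
    exact H39.se_smul_mk_eq_iff.2 (by simpa using sylow_le_bigM y.2)
  let β := {c : G ⧸ bigM P // c ≠ c1}
  letI : MulAction (P : Subgroup G) β :=
    { smul := fun y c => ⟨y • c.1, fun e => c.2 (by
        have := congrArg (y⁻¹ • ·) e
        simpa [hfix1] using this)⟩
      one_smul := fun c => Subtype.ext (one_smul _ _)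
      mul_smul := fun y z c => Subtype.ext (mul_smul _ _ _) }
  have hfree : ∀ c : β, MulAction.stabilizer (P : Subgroup G) c = ⊥ := by
    intro c
    refine (eq_bot_iff_forall _).2 fun y hy => ?_
    by_contra hy1
    obtain ⟨g, hg⟩ := QuotientGroup.mk_surjective c.1
    have h : (y : G) • (QuotientGroup.mk g : G ⧸ bigM P) = QuotientGroup.mk g := by
      rw [hg]; exact congrArg Subtype.val hy
    have hgM : g ∈ bigM P := mem_bigM_of_conj hfix hSE y.2 (fun e => hy1 (Subtype.ext e))
      (H39.se_smul_mk_eq_iff.1 h)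
    exact c.2 (by rw [← hg]; exact QuotientGroup.eq.2 (by simpa using inv_mem hgM))
  refine ⟨Nat.card (Quotient (MulAction.orbitRel (P : Subgroup G) β)), ?_⟩
  have h1 : Nat.card β = Nat.card (P : Subgroup G) *
      Nat.card (Quotient (MulAction.orbitRel (P : Subgroup G) β)) := by
    rw [Nat.card_congr (MulAction.selfEquivSigmaOrbitsQuotientStabilizer (P : Subgroup G) β),
      Nat.card_sigma, Finset.sum_congr rfl (g := fun _ => Nat.card (P : Subgroup G)) fun c _ => ?_,
      Finset.sum_const, Finset.card_univ, smul_eq_mul, mul_comm,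
      Nat.card_eq_fintype_card (α := Quotient _)]
    exact (congrArg Subgroup.index (hfree _)).trans index_bot
  have h2 : Nat.card β + 1 = (bigM P).index := by
    cases nonempty_fintype (G ⧸ bigM P)
    rw [Nat.card_eq_fintype_card, Fintype.card_subtype_compl, Fintype.card_subtype_eq, index,
      Nat.card_eq_fintype_card]
    have := Fintype.card_pos_iff.2 ⟨c1⟩
    omega
  omega

end Cfsg.Agent.H29.AbTwo
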