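import Cfsg.Agent.H29.AbTwo.Orders
import Cfsg.Agent.H29.AbTwo.Bound

/-!
# Fixed points of the automizer of prime order and the rank of the principal block
-/

set_option autoImplicit false
set_option linter.unusedSectionVars false
set_option linter.style.haveILetI false

namespace Cfsg.Agent.H29.AbTwo

open Subgroup H80.Watanabe H83

universe u

variable {G : Type u} [Group G] [Finite G] (P : Sylow 2 G) [IsMulCommutative (P : Subgroup G)]

/-- The elements of the Sylow subgroup fixed by its normalizer. -/
def fixedP : Subgroup G :=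
  (P : Subgroup G) ⊓ centralizer ((normalizer ((P : Subgroup G) : Set G) : Subgroup G) : Set G)

variable {P}

theorem mem_fixedP {x : G} : x ∈ fixedP P ↔ x ∈ (P : Subgroup G) ∧
    ∀ n ∈ normalizer ((P : Subgroup G) : Set G), n * x = x * n := by
  rw [fixedP, mem_inf, mem_centralizer_iff]
  exact Iff.rfl

theorem centralizer_singleton_ge {x : G} (hx : x ∈ fixedP P) :
    normalizer ((P : Subgroup G) : Set G) ≤ centralizer ({x} : Set G) := fun n hn =>
  mem_centralizer_singleton_iff.2 ((mem_fixedP.1 hx).2 n hn)

variable (he : (eInd P).Prime)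

include he in
/-- The automizer of prime order moves every element outside the fixed subgroup freely. -/
theorem normalizer_inf_centralizer {x : G} (hx : x ∈ (P : Subgroup G)) (hxf : x ∉ fixedP P) :
    normalizer ((P : Subgroup G) : Set G) ⊓ centralizer ({x} : Set G) =
      centralizer ((P : Subgroup G) : Set G) := by
  set C := centralizer ((P : Subgroup G) : Set G)
  set N := normalizer ((P : Subgroup G) : Set G)
  set S := N ⊓ centralizer ({x} : Set G)
  have hCN : C ≤ N := centralizer_le_normalizer _
  have hCS : C ≤ S := le_inf hCN fun c hc =>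
    mem_centralizer_singleton_iff.2 (mem_centralizer_iff.1 hc x hx).symm
  have h : C.relIndex S * S.relIndex N = eInd P := relIndex_mul_relIndex _ _ _ hCS inf_le_left
  rcases he.eq_one_or_self_of_dvd _ (Dvd.intro _ h) with h1 | h1
  · exact le_antisymm (relIndex_eq_one.1 h1) hCS
  · exfalso
    rw [h1] at h
    have h2 : S.relIndex N = 1 :=
      Nat.eq_of_mul_eq_mul_left he.pos (by rw [mul_one]; exact h)
    exact hxf (mem_fixedP.2 ⟨hx, fun n hn =>
      mem_centralizer_singleton_iff.1 (relIndex_eq_one.1 h2 hn).2⟩)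

include he in
theorem freeFusion_of_bot (hf : fixedP P = ⊥) : H86.Abelian.FreeFusion P := fun n hn x hx hx1 h => by
  rw [← normalizer_inf_centralizer he hx (fun h' => hx1 (mem_bot.1 (hf ▸ h')))]
  exact ⟨hn, mem_centralizer_singleton_iff.2 (mul_inv_eq_iff_eq_mul.1 h)⟩

include he in
theorem normalizer_comm :
    ∀ g ∈ normalizer ((P : Subgroup G) : Set G), ∀ h ∈ normalizer ((P : Subgroup G) : Set G),
      g * h * g⁻¹ * h⁻¹ ∈ centralizer ((P : Subgroup G) : Set G) := by
  intro g hg h hh
  set C := centralizer ((P : Subgroup G) : Set G)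
  set N := normalizer ((P : Subgroup G) : Set G)
  haveI : (C.subgroupOf N).Normal :=
    normal_subgroupOf_of_le_normalizer fun y hy => H82.normalizer_le_normalizer_centralizer _ hy
  haveI : Fact (Nat.card (N ⧸ C.subgroupOf N)).Prime := ⟨he⟩
  haveI : IsCyclic (N ⧸ C.subgroupOf N) := isCyclic_of_prime_card rfl
  have h1 : (QuotientGroup.mk ((⟨g, hg⟩ : N) * ⟨h, hh⟩ * (⟨g, hg⟩ : N)⁻¹ * (⟨h, hh⟩ : N)⁻¹) :
      N ⧸ C.subgroupOf N) = 1 := by
    simp only [QuotientGroup.mk_mul, QuotientGroup.mk_inv]
    rw [mul_comm' (QuotientGroup.mk (⟨g, hg⟩ : N) : N ⧸ C.subgroupOf N), mul_inv_cancel_right,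
      mul_inv_cancel]
  exact mem_subgroupOf.1 ((QuotientGroup.eq_one_iff _).1 h1)

theorem exists_fixed_omega (hf : fixedP P ≠ ⊥) : ∃ z, z ∈ fixedP P ∧ z ∈ omega P ∧ z ≠ 1 := by
  obtain ⟨⟨x, hx⟩, hne⟩ := ne_bot_iff_exists_ne_one.1 hf
  have hx1 : x ≠ 1 := fun e => hne (Subtype.ext e)
  obtain ⟨j, hj, hj1⟩ := exists_pow_omega hx.1 hx1
  exact ⟨x ^ j, pow_mem hx j, hj, hj1⟩

variable [Fintype G] {M : Ideal AlgInt}

theorem comm_sylow : ∀ x ∈ (P : Subgroup G), ∀ y ∈ (P : Subgroup G), x * y = y * x :=
  fun _ hx _ hy => H86.Abelian.mul_comm_sylow P hx hy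

/-- A fixed element does not change the rank. -/
theorem pairRank_fixed (hM : IsPModular 2 M) {v : G} (hv : v ∈ fixedP P) :
    pairRank 2 M (P : Subgroup G) (principalBlock M (centralizer ((P : Subgroup G) : Set G)))
      (zpowers v) = blockRank 2 (principalBlock M G) := by
  haveI : Fact (Nat.Prime 2) := ⟨Nat.prime_two⟩
  have hmax := (S4681.result 2 M hM P).1
  have h := (pairRank_pairCard_sup hM hmax comm_sylow _ ⊥ bot_le rfl v hv.1 fun t ht _ => by
    rw [H82.Nine.stab_principal] at ht
    rw [(mem_fixedP.1 hv).2 t ht, mul_inv_cancel_right]).1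
  rw [bot_sup_eq, (bot_pair hM hmax).1] at h
  exact h.symm

/-- The rank is the rank of the centralizer of a fixed element. -/
theorem blockRank_centralizer (hM : IsPModular 2 M) {v : G} (hv : v ∈ fixedP P) :
    blockRank 2 (principalBlock M (centralizer ({v} : Set G))) =
      blockRank 2 (principalBlock M G) := by
  haveI : Fact (Nat.Prime 2) := ⟨Nat.prime_two⟩
  rw [← pairRank_fixed hM hv, H82.Nine.pairRank_principal hM P (zpowers_le.2 hv.1)]
  refine H82.Nine.blockRank_principal_congr ?_
  refine le_antisymm (fun x hx => mem_centralizer_iff.2 fun y hy => ?_) fun x hx =>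
    mem_centralizer_singleton_iff.2 (mem_centralizer_iff.1 hx v (mem_zpowers v)).symm
  obtain ⟨i, rfl⟩ := mem_zpowers_iff.1 hy
  exact ((show Commute x v from mem_centralizer_singleton_iff.1 hx).zpow_right i).symm.eq

include he in
/-- The number of characters in terms of the rank. -/
theorem count (hM : IsPModular 2 M) :
    eInd P * Nat.card (principalBlock M G) + Nat.card (fixedP P) =
      eInd P * blockRank 2 (principalBlock M G) * Nat.card (fixedP P) +
        Nat.card (P : Subgroup G) := by
  classical
  haveI : Fact (Nat.Prime 2) := ⟨Nat.prime_two⟩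
  have hmax := (S4681.result 2 M hM P).1
  set C := centralizer ((P : Subgroup G) : Set G)
  set N := normalizer ((P : Subgroup G) : Set G)
  set l := blockRank 2 (principalBlock M G)
  have h := count_identity hM hmax comm_sylow 1 fun _ _ _ => rfl
  rw [if_pos rfl, H82.Nine.stab_principal] at h
  simp only [MonoidHom.one_apply, Units.val_one, mul_one] at h
  rw [Finset.sum_congr rfl (g := fun v : (P : Subgroup G) =>
    if (v : G) ∈ fixedP P then (Nat.card N : ℂ) * (l : ℂ) else (Nat.card C : ℂ)) fun v _ => ?_,
    Finset.sum_ite, Finset.sum_const, Finset.sum_const, nsmul_eq_mul, nsmul_eq_mul] at h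
  · have hf1 : (Finset.univ.filter fun v : (P : Subgroup G) => (v : G) ∈ fixedP P).card =
        Nat.card (fixedP P) := by
      rw [← Fintype.card_coe, ← Nat.card_eq_fintype_card]
      exact Nat.card_congr
        { toFun := fun v => ⟨(v.1 : G), (Finset.mem_filter.1 v.2).2⟩
          invFun := fun v => ⟨⟨v.1, v.2.1⟩, Finset.mem_filter.2 ⟨Finset.mem_univ _, v.2⟩⟩
          left_inv := fun v => rfl
          right_inv := fun v => rfl }
    have hf2 := Finset.card_filter_add_card_filter_not
      (s := (Finset.univ : Finset (P : Subgroup G))) fun v => (v : G) ∈ fixedP P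
    rw [hf1, Finset.card_univ, ← Nat.card_eq_fintype_card] at hf2
    rw [hf1] at h
    have hN : Nat.card N = eInd P * Nat.card C := eInd_mul.symm
    rw [hN] at h
    have hC : (Nat.card C : ℂ) ≠ 0 := Nat.cast_ne_zero.2 Nat.card_pos.ne'
    have h2 : (Nat.card (fixedP P) : ℂ) * ((eInd P : ℂ) * l) +
        ((Finset.univ.filter fun v : (P : Subgroup G) => (v : G) ∉ fixedP P).card : ℂ) =
        (eInd P : ℂ) * (Nat.card (principalBlock M G) : ℂ) := by
      refine mul_left_cancel₀ hC ?_
      push_cast at h
      linear_combination h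
    have h3 : Nat.card (fixedP P) * (eInd P * l) +
        (Finset.univ.filter fun v : (P : Subgroup G) => (v : G) ∉ fixedP P).card =
        eInd P * Nat.card (principalBlock M G) := by exact_mod_cast h2
    rw [← h3, ← hf2]
    ring
  · split_ifs with hv
    · rw [pairRank_fixed hM hv, inf_eq_left.2 (centralizer_singleton_ge hv)]
    · rw [normalizer_inf_centralizer he v.2 hv, H82.Nine.pairRank_eq_top hM hmax comm_sylow _
        (zpowers_le.2 v.2), H82.Nine.pairRank_top_principal hM P, Nat.cast_one, mul_one]
      intro t ht htC w hw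
      rw [H82.Nine.stab_principal] at ht
      have ht' : t ∈ C := by
        show t ∈ centralizer ((P : Subgroup G) : Set G)
        rw [← normalizer_inf_centralizer he v.2 hv]
        exact ⟨ht, mem_centralizer_singleton_iff.2
          (mem_centralizer_iff.1 htC (v : G) (mem_zpowers _)).symm⟩
      rw [← mem_centralizer_iff.1 ht' w hw, mul_inv_cancel_right]

end Cfsg.Agent.H29.AbTwo
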