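import Cfsg.Agent.H29.AbTwo.Orders
import Cfsg.Agent.CharInduce.Ops
import Cfsg.Agent.CharInduce.Function
import Mathlib.GroupTheory.FiniteAbelian.Duality
import Mathlib.Analysis.Complex.Polynomial.Basic
import Mathlib.RingTheory.RootsOfUnity.AlgebraicallyClosed

/-!
# Linear characters of the big subgroup and their induced characters
-/

set_option autoImplicit false
set_option linter.unusedSectionVars false
set_option linter.style.haveILetI false

open scoped ComplexConjugate

namespace Cfsg.Agent.H29.AbTwo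

open Subgroup CharInduce CharBasic BlockBasic

universe u

variable {G : Type u} [Group G] [Finite G] (P : Sylow 2 G) [IsMulCommutative (P : Subgroup G)]

/-- The linear characters of the big subgroup trivial on the kernel. -/
abbrev Lin : Type u :=
  {l : bigM P →* ℂˣ // ∀ m : bigM P, (m : G) ∈ bigK P → l m = 1}

variable {P}

variable (hfix : H86.Abelian.FreeFusion P) (hrank : 8 ≤ Nat.card (omega P))
variable (hab : ∀ g ∈ normalizer ((P : Subgroup G) : Set G),
  ∀ h ∈ normalizer ((P : Subgroup G) : Set G),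
    g * h * g⁻¹ * h⁻¹ ∈ centralizer ((P : Subgroup G) : Set G))
variable (hSE : IsStronglyEmbedded (bigM P))

include hfix hrank in
theorem bigK_le : bigK P ≤ bigM P := sup_le bigW_le_bigM sylow_le_bigM

include hfix hrank in
theorem centralizer_sylow_le_bigK : centralizer ((P : Subgroup G) : Set G) ≤ bigK P := fun c hc => by
  obtain ⟨a, ha⟩ : ∃ a : omega P, a ≠ 1 := by
    haveI : Nontrivial (omega P) := Finite.one_lt_card_iff_nontrivial.1 (by omega)
    exact exists_ne 1
  have ha1 : (a : G) ≠ 1 := fun e => ha (Subtype.ext e)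
  have hca : c ∈ centralizer ({(a : G)} : Set G) :=
    mem_centralizer_singleton_iff.2 (mem_centralizer_iff.1 hc a a.2.1).symm
  obtain ⟨k, hk, y, hy, rfl⟩ := centralizer_eq hfix a.2.1 ha1 hca
  exact mul_mem (mem_sup_left (oddAt_le_bigW_omega a.2 ha1 hk)) (mem_sup_right hy)

include hfix hrank in
theorem centralizer_omega_le_bigK {a : G} (ha : a ∈ omega P) (ha1 : a ≠ 1) :
    centralizer ({a} : Set G) ≤ bigK P := fun c hc => by
  obtain ⟨k, hk, y, hy, rfl⟩ := centralizer_eq hfix ha.1 ha1 hc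
  exact mul_mem (mem_sup_left (oddAt_le_bigW_omega ha ha1 hk)) (mem_sup_right hy)

theorem mul_self_of_orderOf {y : G} (h : orderOf y = 2) : y * y = 1 := by
  rw [← pow_two, ← h]; exact pow_orderOf_eq_one y

theorem inv_self_of_orderOf {y : G} (h : orderOf y = 2) : y⁻¹ = y :=
  inv_eq_of_mul_eq_one_right (mul_self_of_orderOf h)

include hfix hrank hab in
theorem card_lin : Nat.card (Lin P) = eInd P := by
  classical
  haveI : ((bigK P).subgroupOf (bigM P)).Normal := by
    rw [normal_subgroupOf_iff_le_normalizer (bigK_le hfix hrank)]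
    exact bigM_le_normalizer_bigK hfix
  set K := (bigK P).subgroupOf (bigM P)
  let Q := bigM P ⧸ K
  have hcomm : ∀ a b : Q, a * b = b * a := by
    intro a b
    induction a using QuotientGroup.induction_on
    induction b using QuotientGroup.induction_on
    rename_i x y
    obtain ⟨w, hw, n, hn, e⟩ := (mem_bigM hfix).1 x.2
    obtain ⟨w', hw', n', hn', e'⟩ := (mem_bigM hfix).1 y.2
    have hwK : (⟨w, bigW_le_bigM hw⟩ : bigM P) ∈ K := mem_subgroupOf.2 (mem_sup_left hw)
    have hwK' : (⟨w', bigW_le_bigM hw'⟩ : bigM P) ∈ K := mem_subgroupOf.2 (mem_sup_left hw')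
    have hx : x = ⟨w, bigW_le_bigM hw⟩ * ⟨n, normalizer_le_bigM hn⟩ := Subtype.ext e
    have hy : y = ⟨w', bigW_le_bigM hw'⟩ * ⟨n', normalizer_le_bigM hn'⟩ := Subtype.ext e'
    rw [hx, hy, QuotientGroup.mk_mul, QuotientGroup.mk_mul, (QuotientGroup.eq_one_iff _).2 hwK,
      (QuotientGroup.eq_one_iff _).2 hwK', one_mul, one_mul, ← QuotientGroup.mk_mul,
      ← QuotientGroup.mk_mul]
    refine QuotientGroup.eq.2 (mem_subgroupOf.2 (centralizer_sylow_le_bigK hfix hrank ?_))
    push_cast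
    have := hab _ (inv_mem hn') _ (inv_mem hn)
    convert this using 1
    group
  letI : CommGroup Q := { (inferInstance : Group Q) with mul_comm := hcomm }
  have h2 : Nat.card Q = eInd P := by
    have h := card_bigM hfix hrank
    rw [card_eq_card_quotient_mul_card_subgroup K,
      Nat.card_congr (subgroupOfEquivOfLe (bigK_le hfix hrank)).toEquiv] at h
    exact Nat.eq_of_mul_eq_mul_right Nat.card_pos h
  rw [← h2, ← CommGroup.card_monoidHom_of_hasEnoughRootsOfUnity Q ℂ]
  refine Nat.card_congr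
    { toFun := fun l => QuotientGroup.lift K l.1 fun m hm => l.2 m (mem_subgroupOf.1 hm)
      invFun := fun f => ⟨f.comp (QuotientGroup.mk' K), fun m hm => by
        rw [MonoidHom.comp_apply, QuotientGroup.mk'_apply,
          (QuotientGroup.eq_one_iff _).2 (mem_subgroupOf.2 hm), map_one]⟩
      left_inv := fun l => Subtype.ext (MonoidHom.ext fun m => rfl)
      right_inv := fun f => QuotientGroup.monoidHom_ext _ (MonoidHom.ext fun m => rfl) }

include hfix hSE in
/-- An inverted element commuting with an involution of the big subgroup is trivial. -/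
theorem eq_one_of_inverted {a z b : G} (ha : a ∈ omega P) (ha1 : a ≠ 1) (hza : z * a = a * z)
    (hzodd : Odd (orderOf z)) (hb : orderOf b = 2) (hbM : b ∉ bigM P)
    (hbz : b * z * b⁻¹ = z⁻¹) : z = 1 := by
  set C := centralizer ({z} : Set G)
  set L := C ⊔ zpowers b
  have hbN : b ∈ normalizer (C : Set G) := by
    have key : ∀ x ∈ C, b * x * b⁻¹ ∈ C := fun x hx => by
      rw [mem_centralizer_singleton_iff] at hx ⊢
      have hc : x * z⁻¹ = z⁻¹ * x := (Commute.inv_right hx).eq
      have hz' : z = b * z⁻¹ * b⁻¹ := by rw [← conj_inv, hbz, inv_inv]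
      calc b * x * b⁻¹ * z = b * x * b⁻¹ * (b * z⁻¹ * b⁻¹) := by rw [← hz']
        _ = b * (x * z⁻¹) * b⁻¹ := by group
        _ = b * (z⁻¹ * x) * b⁻¹ := by rw [hc]
        _ = b * z⁻¹ * b⁻¹ * (b * x * b⁻¹) := by group
        _ = z * (b * x * b⁻¹) := by rw [← hz']
    have hbb : b⁻¹ = b := inv_self_of_orderOf hb
    refine mem_normalizer_iff.2 fun x => ⟨key x, fun h => ?_⟩
    have h2 := key _ h
    rwa [show b * (b * x * b⁻¹) * b⁻¹ = x by
      rw [hbb, show b * (b * x * b) * b = (b * b) * x * (b * b) by group, mul_self_of_orderOf hb,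
        one_mul, mul_one]] at h2
  have hLN : L ≤ normalizer (C : Set G) := sup_le le_normalizer (zpowers_le.2 hbN)
  have haC : a ∈ C := mem_centralizer_singleton_iff.2 hza.symm
  have haL : a ∈ L := mem_sup_left haC
  have haM : a ∈ bigM P := sylow_le_bigM ha.1
  set H := (bigM P).subgroupOf L
  have hao : orderOf a = 2 := orderOf_omega ha ha1
  have hH : IsStronglyEmbedded H := by
    refine ⟨fun h => hbM (mem_subgroupOf.1 (h ▸ mem_top (⟨b, mem_sup_right (mem_zpowers b)⟩ : L))),
      ?_, fun g hg => ?_⟩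
    · rw [even_iff_two_dvd, ← hao, ← orderOf_mk a haL]
      rw [← orderOf_mk (⟨a, haL⟩ : L) (mem_subgroupOf.2 haM : (⟨a, haL⟩ : L) ∈ H)]
      exact orderOf_dvd_natCard _
    · have hle : (H ⊓ H.map (MulAut.conj g).toMonoidHom).map L.subtype ≤
          bigM P ⊓ (bigM P).map (MulAut.conj (g : G)).toMonoidHom := by
        rintro _ ⟨x, ⟨hx1, y, hy, e⟩, rfl⟩
        exact ⟨mem_subgroupOf.1 hx1, (y : G), mem_subgroupOf.1 hy, congrArg Subtype.val e⟩
      refine (hSE.2.2 (g : G) fun h => hg (mem_subgroupOf.2 h)).of_dvd_nat ?_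
      rw [← card_map_of_injective L.subtype_injective]
      exact card_dvd_of_le hle
  obtain ⟨g, hg⟩ := isConj_iff.1 (H39.se_involutions_conj hH
    (a := (⟨a, haL⟩ : L)) (b := (⟨b, mem_sup_right (mem_zpowers b)⟩ : L))
    (by rw [orderOf_mk]; exact hao) (by rw [orderOf_mk]; exact hb))
  have hg' : (g : G) * a * (g : G)⁻¹ = b := congrArg Subtype.val hg
  have hbC : b ∈ C := hg' ▸ (mem_normalizer_iff.1 (hLN g.2) a).1 haC
  have hbc := mem_centralizer_singleton_iff.1 hbC
  rw [hbc, mul_inv_cancel_right] at hbz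
  exact eq_one_of_odd_of_sq hzodd (by rw [pow_two]; exact inv_mul_cancel z ▸ congrArg (· * z) hbz)

include hfix hrank hSE in
/-- Two linear characters agreeing through an outside coset are mutually inverse. -/
theorem mul_eq_one_of_agree {l l' : Lin P} {x : G} (hx : x ∉ bigM P)
    (h : ∀ (m : bigM P) (hm : x⁻¹ * (m : G) * x ∈ bigM P), l.1 m = l'.1 ⟨_, hm⟩) :
    ∀ m : bigM P, l.1 m * l'.1 m = 1 := by
  classical
  obtain ⟨a', ha'⟩ : ∃ a : omega P, a ≠ 1 := by
    haveI : Nontrivial (omega P) := Finite.one_lt_card_iff_nontrivial.1 (by omega)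
    exact exists_ne 1
  obtain ⟨a, ha, ha1⟩ : ∃ a, a ∈ omega P ∧ a ≠ 1 := ⟨a', a'.2, fun e => ha' (Subtype.ext e)⟩
  have haM : a ∈ bigM P := sylow_le_bigM ha.1
  have hao := orderOf_omega ha ha1
  set c1 : G ⧸ bigM P := QuotientGroup.mk 1
  set cy : G ⧸ bigM P := QuotientGroup.mk x
  have hne : c1 ≠ cy := fun e => hx (by simpa using QuotientGroup.eq.1 e)
  have hfix1 : a • c1 = c1 := H39.se_smul_mk_eq_iff.2 (by simpa using haM)
  have hu : orderOf (x * a * x⁻¹) = 2 := by rw [H39.orderOf_conj, hao]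
  obtain ⟨b, hb, hb1, hby, -⟩ := H39.se_exists_swap hSE hao hu hne hfix1
    (H39.se_smul_mk_eq_iff.2 (by simpa [mul_assoc] using haM))
  have hbx : x⁻¹ * b ∈ bigM P := by
    have h2 : (QuotientGroup.mk (b * 1) : G ⧸ bigM P) = QuotientGroup.mk x := hb1
    rw [mul_one] at h2
    exact QuotientGroup.eq.1 h2.symm
  have hbM : b ∉ bigM P := fun hbM => hx (by
    have := mul_mem hbM (inv_mem hbx)
    simpa [mul_assoc] using this)
  have hbb : b⁻¹ = b := inv_self_of_orderOf hb
  have h' : ∀ (m : bigM P) (hm : b⁻¹ * (m : G) * b ∈ bigM P), l.1 m = l'.1 ⟨_, hm⟩ := by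
    intro m hm
    set m0 : bigM P := ⟨x⁻¹ * b, hbx⟩
    have hxm : x⁻¹ * (m : G) * x ∈ bigM P := by
      have := mul_mem (mul_mem hbx hm) (inv_mem hbx)
      simpa [mul_assoc] using this
    rw [h m hxm]
    have e : (⟨_, hxm⟩ : bigM P) = m0 * ⟨_, hm⟩ * m0⁻¹ := Subtype.ext (by
      simp only [m0, Subgroup.coe_mul, Subgroup.coe_inv]; group)
    rw [e, map_mul, map_mul, map_inv, mul_inv_cancel_comm]
  set D := bigM P ⊓ (bigM P).map (MulAut.conj b).toMonoidHom
  have hDodd : Odd (Nat.card D) := hSE.2.2 b hbM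
  let S := {i : G // orderOf i = 2 ∧ i • c1 = cy}
  let I := {t : G // orderOf t = 2 ∧ t ∈ bigM P}
  have hd : ∀ i : S, b * i.1 ∈ bigM P ∧ i.1 * b ∈ bigM P := by
    intro i
    have hi2 : i.1 • cy = c1 := by
      calc i.1 • cy = i.1 • i.1 • c1 := by rw [i.2.2]
        _ = c1 := by rw [← mul_smul, mul_self_of_orderOf i.2.1, one_smul]
    constructor
    · have e : (b * i.1) • c1 = c1 := by rw [mul_smul, i.2.2, hby]
      simpa using H39.se_smul_mk_eq_iff.1 e
    · have e : (i.1 * b) • c1 = c1 := by rw [mul_smul, hb1, hi2]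
      simpa using H39.se_smul_mk_eq_iff.1 e
  have hll : ∀ i : S, l.1 ⟨b * i.1, (hd i).1⟩ * l'.1 ⟨b * i.1, (hd i).1⟩ = 1 := by
    intro i
    have hii : i.1⁻¹ = i.1 := inv_self_of_orderOf i.2.1
    have hm : b⁻¹ * ((⟨b * i.1, (hd i).1⟩ : bigM P) : G) * b ∈ bigM P := by
      show b⁻¹ * (b * i.1) * b ∈ bigM P
      rw [inv_mul_cancel_left]; exact (hd i).2
    rw [h' _ hm]
    have e : (⟨_, hm⟩ : bigM P) = (⟨b * i.1, (hd i).1⟩ : bigM P)⁻¹ := Subtype.ext (by
      show b⁻¹ * (b * i.1) * b = (b * i.1)⁻¹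
      rw [inv_mul_cancel_left, mul_inv_rev, hii, hbb])
    rw [e, map_inv, inv_mul_cancel]
  let f : S → I := fun i => ⟨(b * i.1) * a * (b * i.1)⁻¹, by rw [H39.orderOf_conj, hao],
    mul_mem (mul_mem (hd i).1 haM) (inv_mem (hd i).1)⟩
  have hf : Function.Injective f := by
    intro i j e
    have e' : (b * i.1) * a * (b * i.1)⁻¹ = (b * j.1) * a * (b * j.1)⁻¹ := congrArg Subtype.val e
    have hii : i.1⁻¹ = i.1 := inv_self_of_orderOf i.2.1
    have hjj : j.1⁻¹ = j.1 := inv_self_of_orderOf j.2.1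
    set z := (b * i.1)⁻¹ * (b * j.1) with hz
    have hzM : z ∈ bigM P := mul_mem (inv_mem (hd i).1) (hd j).1
    have hzi : z = i.1 * j.1 := by
      rw [hz, mul_inv_rev, hbb, hii, show i.1 * b * (b * j.1) = i.1 * (b * b) * j.1 by group,
        mul_self_of_orderOf hb, mul_one]
    have hzb : z ∈ D := by
      refine ⟨hzM, (i.1 * b)⁻¹ * (j.1 * b), mul_mem (inv_mem (hd i).2) (hd j).2, ?_⟩
      show b * ((i.1 * b)⁻¹ * (j.1 * b)) * b⁻¹ = z
      rw [hzi, mul_inv_rev, hbb, hii,
        show b * (b * i.1 * (j.1 * b)) * b = (b * b) * (i.1 * j.1) * (b * b) by group,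
        mul_self_of_orderOf hb, one_mul, mul_one]
    have hza : z * a = a * z := by
      calc z * a = (b * i.1)⁻¹ * ((b * j.1) * a * (b * j.1)⁻¹) * (b * j.1) := by rw [hz]; group
        _ = (b * i.1)⁻¹ * ((b * i.1) * a * (b * i.1)⁻¹) * (b * j.1) := by rw [e']
        _ = a * z := by rw [hz]; group
    have hiM : i.1 ∉ bigM P := fun hiM => hne
      ((H39.se_smul_mk_eq_iff.2 (by simpa using hiM)).symm.trans i.2.2)
    have h1 := eq_one_of_inverted hfix hSE ha ha1 hza (odd_orderOf_of_mem hDodd hzb) i.2.1 hiM (by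
      rw [hzi, mul_inv_rev, hjj, hii]
      calc i.1 * (i.1 * j.1) * i.1 = (i.1 * i.1) * j.1 * i.1 := by group
        _ = _ := by
          rw [mul_self_of_orderOf i.2.1, one_mul])
    rw [hzi, mul_eq_one_iff_eq_inv, hjj] at h1
    exact Subtype.ext h1
  have hbij : Function.Bijective f :=
    (Nat.bijective_iff_injective_and_card f).2 ⟨hf, H39.se_card_swap hSE c1 cy⟩
  intro m
  obtain ⟨w, hw, n, hn, e⟩ := (mem_bigM hfix).1 m.2
  obtain ⟨i, hi⟩ := hbij.2 ⟨n * a * n⁻¹, by rw [H39.orderOf_conj, hao],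
    mul_mem (mul_mem (normalizer_le_bigM hn) haM) (inv_mem (normalizer_le_bigM hn))⟩
  have hi' : (b * i.1) * a * (b * i.1)⁻¹ = n * a * n⁻¹ := congrArg Subtype.val hi
  set d : bigM P := ⟨b * i.1, (hd i).1⟩
  set nn : bigM P := ⟨n, normalizer_le_bigM hn⟩
  have hk : ((nn⁻¹ * d : bigM P) : G) ∈ bigK P := by
    refine centralizer_omega_le_bigK hfix hrank ha ha1 (mem_centralizer_singleton_iff.2 ?_)
    push_cast
    show n⁻¹ * (b * i.1) * a = a * (n⁻¹ * (b * i.1))
    calc n⁻¹ * (b * i.1) * a = n⁻¹ * ((b * i.1) * a * (b * i.1)⁻¹) * (b * i.1) := by group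
      _ = n⁻¹ * (n * a * n⁻¹) * (b * i.1) := by rw [hi']
      _ = _ := by group
  have hwK : ((⟨w, bigW_le_bigM hw⟩ : bigM P) : G) ∈ bigK P := mem_sup_left hw
  have hm : m = ⟨w, bigW_le_bigM hw⟩ * nn := Subtype.ext e
  have key : ∀ k : Lin P, k.1 m = k.1 d := fun k => by
    have h2 := k.2 _ hk
    rw [map_mul, map_inv, inv_mul_eq_one] at h2
    rw [hm, map_mul, k.2 _ hwK, one_mul, h2]
  rw [key l, key l']
  exact hll i

variable [Fintype G]

/-- The induced character. -/
noncomputable def indLin (l : Lin P) : G → ℂ := indFun (bigM P) (fun m => (l.1 m : ℂ))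

include hfix hrank hSE in
theorem indLin_section {a k : G} (ha : a ∈ omega P) (ha1 : a ≠ 1) (hk : k ∈ oddAt a) (l : Lin P) :
    indLin l (a * k) = 1 := by
  classical
  have hao := orderOf_omega ha ha1
  have hkK : a * k ∈ bigK P := mul_mem (mem_sup_right ha.1) (mem_sup_left (oddAt_le_bigW_omega ha ha1 hk))
  have hkc : Commute a k := (mem_centralizer_singleton_iff.1 (oddAt_le a hk)).symm
  have hval : ∀ x : G, extendByZero (bigM P) (fun m => (l.1 m : ℂ)) (x⁻¹ * (a * k) * x) =
      if x ∈ bigM P then 1 else 0 := by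
    intro x
    split_ifs with hx
    · have hm : x⁻¹ * (a * k) * x ∈ bigM P :=
        mul_mem (mul_mem (inv_mem hx) (bigK_le hfix hrank hkK)) hx
      rw [extendByZero_of_mem _ hm]
      have hm' : x⁻¹ * (a * k) * x ∈ bigK P := by
        have h := (mem_normalizer_iff.1 (bigM_le_normalizer_bigK hfix (inv_mem hx)) (a * k)).1 hkK
        rwa [inv_inv] at h
      rw [l.2 ⟨_, hm⟩ hm', Units.val_one]
    · refine extendByZero_of_not_mem _ fun hm => hx ?_
      have ho := odd_orderOf_of_mem (odd_card_oddAt a) hk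
      have hpow : (x⁻¹ * (a * k) * x) ^ orderOf k = x⁻¹ * a * x := by
        have e : x⁻¹ * (a * k) * x = x⁻¹ * (a * k) * x⁻¹⁻¹ := by rw [inv_inv]
        rw [e, conj_pow, hkc.mul_pow, pow_orderOf_eq_one, mul_one, inv_inv]
        obtain ⟨j, hj⟩ := ho
        rw [hj, pow_succ, pow_mul, ha.2, one_pow, one_mul]
      have h2 := hpow ▸ pow_mem hm (orderOf k)
      exact inv_mem_iff.1 (H39.se_mem_of_conj hSE hao (sylow_le_bigM ha.1) (by rwa [inv_inv]))
  rw [indLin, indFun_apply, Finset.sum_congr rfl fun x _ => hval x, Finset.sum_boole,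
    ← Fintype.card_subtype, ← Nat.card_eq_fintype_card]
  exact inv_mul_cancel₀ (card_ne_zero_complex _)

include hfix hrank hSE in
open Classical in
/-- The inner products. -/
theorem classInner_indLin (l l' : Lin P) (hne : ∃ m : bigM P, l.1 m * l'.1 m ≠ 1) :
    classInner (indLin l) (indLin l') = if l = l' then 1 else 0 := by
  classical
  haveI : Fintype (bigM P) := Fintype.ofFinite _
  rw [indLin, indLin, classInner_indFun_left _ _ _ (isClassFunction_indFun _ _)]
  have hM : (Nat.card (bigM P) : ℂ) ≠ 0 := card_ne_zero_complex _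
  have hterm : ∀ x : G, ∑ m : bigM P, (l.1 m : ℂ) *
      conj (extendByZero (bigM P) (fun m => (l'.1 m : ℂ)) (x⁻¹ * (m : G) * x)) =
      if x ∈ bigM P then (if l = l' then (Nat.card (bigM P) : ℂ) else 0) else 0 := by
    intro x
    split_ifs with hx hll
    · subst hll
      rw [Finset.sum_congr rfl (g := fun _ => (1 : ℂ)) fun m _ => ?_, Finset.sum_const,
        Finset.card_univ, nsmul_eq_mul, mul_one, Nat.card_eq_fintype_card]
      rw [extendByZero_of_mem _ (mul_mem (mul_mem (inv_mem hx) m.2) hx),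
        show (⟨x⁻¹ * (m : G) * x, _⟩ : bigM P) = ⟨x, hx⟩⁻¹ * m * ⟨x, hx⟩ from Subtype.ext rfl,
        map_mul, map_mul, map_inv, inv_mul_cancel_comm, Complex.mul_conj', CharInduce.norm_hom]
      norm_num
    · obtain ⟨m₀, hm₀⟩ : ∃ m₀, l.1 m₀ ≠ l'.1 m₀ := by
        by_contra h
        push Not at h
        exact hll (Subtype.ext (MonoidHom.ext h))
      have hrw : ∀ m : bigM P, (l.1 m : ℂ) *
          conj (extendByZero (bigM P) (fun m => (l'.1 m : ℂ)) (x⁻¹ * (m : G) * x)) =
          (l.1 m : ℂ) * conj (l'.1 m : ℂ) := fun m => by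
        rw [extendByZero_of_mem _ (mul_mem (mul_mem (inv_mem hx) m.2) hx),
          show (⟨x⁻¹ * (m : G) * x, _⟩ : bigM P) = ⟨x, hx⟩⁻¹ * m * ⟨x, hx⟩ from Subtype.ext rfl,
          map_mul, map_mul, map_inv, inv_mul_cancel_comm]
      rw [Finset.sum_congr rfl fun m _ => hrw m]
      have hshift := Equiv.sum_comp (Equiv.mulLeft m₀)
        fun m : bigM P => (l.1 m : ℂ) * conj (l'.1 m : ℂ)
      simp only [Equiv.coe_mulLeft, map_mul, Units.val_mul, map_mul] at hshift
      rw [Finset.sum_congr rfl (g := fun m => ((l.1 m₀ : ℂ) * conj (l'.1 m₀ : ℂ)) *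
        ((l.1 m : ℂ) * conj (l'.1 m : ℂ))) (fun m _ => by ring), ← Finset.mul_sum] at hshift
      have hc : (l.1 m₀ : ℂ) * conj (l'.1 m₀ : ℂ) ≠ 1 := fun h => hm₀ (Units.ext (by
        have h2 : conj (l'.1 m₀ : ℂ) * (l'.1 m₀ : ℂ) = 1 := by
          rw [mul_comm, Complex.mul_conj', CharInduce.norm_hom]; norm_num
        calc (l.1 m₀ : ℂ) = (l.1 m₀ : ℂ) * (conj (l'.1 m₀ : ℂ) * (l'.1 m₀ : ℂ)) := by rw [h2, mul_one]
          _ = _ := by rw [← mul_assoc, h, one_mul]))
      exact (mul_left_eq_self₀.1 hshift).resolve_left hc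
    · let D : Subgroup (bigM P) :=
        ((bigM P).comap (MulAut.conj x⁻¹).toMonoidHom).subgroupOf (bigM P)
      have hD : ∀ m : bigM P, m ∈ D ↔ x⁻¹ * (m : G) * x ∈ bigM P := fun m => by
        simp [D, mem_subgroupOf]
      obtain ⟨m₀, hm₀D, hm₀⟩ : ∃ m₀ : bigM P, ∃ hm : x⁻¹ * (m₀ : G) * x ∈ bigM P,
          l.1 m₀ ≠ l'.1 ⟨_, hm⟩ := by
        by_contra h
        push Not at h
        obtain ⟨m, hm⟩ := hne
        exact hm (mul_eq_one_of_agree hfix hrank hSE hx h m)
      let g : bigM P → ℂ := fun m => (l.1 m : ℂ) *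
        conj (extendByZero (bigM P) (fun m => (l'.1 m : ℂ)) (x⁻¹ * (m : G) * x))
      have hg : ∀ m, g (m₀ * m) = g m₀ * g m := by
        intro m
        by_cases hm : x⁻¹ * (m : G) * x ∈ bigM P
        · have hmm : x⁻¹ * ((m₀ * m : bigM P) : G) * x ∈ bigM P := by
            have := mul_mem hm₀D hm
            simpa [mul_assoc] using this
          simp only [g, extendByZero_of_mem _ hmm, extendByZero_of_mem _ hm₀D,
            extendByZero_of_mem _ hm]
          rw [show (⟨_, hmm⟩ : bigM P) = ⟨_, hm₀D⟩ * ⟨_, hm⟩ from Subtype.ext (by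
            push_cast; group)]
          simp only [map_mul, Units.val_mul]
          ring
        · have hmm : x⁻¹ * ((m₀ * m : bigM P) : G) * x ∉ bigM P := fun h => hm (by
            have := mul_mem (inv_mem hm₀D) h
            simpa [mul_assoc] using this)
          simp only [g, extendByZero_of_not_mem _ hmm, extendByZero_of_not_mem _ hm, map_zero,
            mul_zero]
      have hshift := Equiv.sum_comp (Equiv.mulLeft m₀) g
      simp only [Equiv.coe_mulLeft] at hshift
      rw [Finset.sum_congr rfl fun m _ => hg m, ← Finset.mul_sum] at hshift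
      have hc : g m₀ ≠ 1 := fun h => hm₀ (Units.ext (by
        simp only [g, extendByZero_of_mem _ hm₀D] at h
        have h2 : conj (l'.1 ⟨_, hm₀D⟩ : ℂ) * (l'.1 ⟨_, hm₀D⟩ : ℂ) = 1 := by
          rw [mul_comm, Complex.mul_conj', CharInduce.norm_hom]; norm_num
        calc (l.1 m₀ : ℂ) = (l.1 m₀ : ℂ) *
              (conj (l'.1 ⟨_, hm₀D⟩ : ℂ) * (l'.1 ⟨_, hm₀D⟩ : ℂ)) := by rw [h2, mul_one]
          _ = _ := by rw [← mul_assoc, h, one_mul]))
      exact (mul_left_eq_self₀.1 hshift).resolve_left hc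
  rw [classInner_def]
  simp only [indFun_apply, map_mul, map_inv₀, map_natCast, map_sum, Finset.mul_sum]
  rw [Finset.sum_comm, Finset.sum_congr rfl (g := fun x => (Nat.card (bigM P) : ℂ)⁻¹ *
    (Nat.card (bigM P) : ℂ)⁻¹ * (if x ∈ bigM P then
      (if l = l' then (Nat.card (bigM P) : ℂ) else 0) else 0)) fun x _ => by
    rw [← hterm x, Finset.mul_sum]; exact Finset.sum_congr rfl fun m _ => by ring]
  rw [← Finset.mul_sum, ← Finset.sum_filter, Finset.sum_const, nsmul_eq_mul,
    ← Fintype.card_subtype, ← Nat.card_eq_fintype_card]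
  split_ifs
  · field_simp
  · simp

end Cfsg.Agent.H29.AbTwo
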