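import Cfsg.Agent.H29.AbTwo.Functor
import Cfsg.Agent.H39.StronglyEmbedded

/-!
# Orders in the strongly embedded alternative
-/

set_option autoImplicit false
set_option linter.unusedSectionVars false
set_option linter.style.haveILetI false

namespace Cfsg.Agent.H29.AbTwo

open Subgroup

universe u

variable {G : Type u} [Group G] [Finite G]

theorem card_sup_of_disjoint {H K : Subgroup G} (hn : K ≤ normalizer (H : Set G))
    (hd : ∀ x ∈ H, x ∈ K → x = 1) : Nat.card ↥(H ⊔ K) = Nat.card H * Nat.card K := by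
  rw [← Nat.card_prod]
  refine (Nat.card_congr (Equiv.ofBijective
    (fun p : H × K => (⟨(p.1 : G) * p.2, mul_mem (mem_sup_left p.1.2) (mem_sup_right p.2.2)⟩ :
      ↥(H ⊔ K))) ⟨?_, ?_⟩)).symm
  · rintro ⟨⟨h, hh⟩, ⟨k, hk⟩⟩ ⟨⟨h', hh'⟩, ⟨k', hk'⟩⟩ e
    have e' : h * k = h' * k' := congrArg Subtype.val e
    have e2 : h'⁻¹ * h = k' * k⁻¹ := by
      rw [eq_mul_inv_iff_mul_eq, mul_assoc, e', inv_mul_cancel_left]
    have h1 : h'⁻¹ * h = 1 := hd _ (mul_mem (inv_mem hh') hh) (e2 ▸ mul_mem hk' (inv_mem hk))
    obtain rfl : h' = h := inv_mul_eq_one.1 h1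
    obtain rfl : k' = k := (mul_left_cancel e').symm
    rfl
  · rintro ⟨x, hx⟩
    rw [← SetLike.mem_coe, coe_mul_of_right_le_normalizer_left H K hn] at hx
    obtain ⟨h, hh, k, hk, e⟩ := hx
    exact ⟨(⟨h, hh⟩, ⟨k, hk⟩), Subtype.ext e⟩

variable (P : Sylow 2 G) [IsMulCommutative (P : Subgroup G)]

/-- The index of the centralizer of the Sylow subgroup in its normalizer. -/
noncomputable def eInd : ℕ :=
  (centralizer ((P : Subgroup G) : Set G)).relIndex (normalizer ((P : Subgroup G) : Set G))

variable {P}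

theorem eInd_pos : 0 < eInd P :=
  Nat.pos_of_ne_zero index_ne_zero_of_finite

theorem eInd_mul :
    eInd P * Nat.card (centralizer ((P : Subgroup G) : Set G)) =
      Nat.card (normalizer ((P : Subgroup G) : Set G)) := by
  rw [eInd, relIndex, ← Nat.card_congr
    (subgroupOfEquivOfLe (centralizer_le_normalizer ((P : Subgroup G) : Set G))).toEquiv]
  exact index_mul_card _

theorem odd_eInd : Odd (eInd P) := by
  haveI : Fact (Nat.Prime 2) := ⟨Nat.prime_two⟩
  rw [Nat.odd_iff]
  by_contra h
  have h2 : 2 ∣ eInd P := by omega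
  have hle : (P : Subgroup G) ≤ centralizer ((P : Subgroup G) : Set G) := fun x hx =>
    mem_centralizer_iff.2 fun y hy => H86.Abelian.mul_comm_sylow P hy hx
  refine P.not_dvd_index (h2.trans ?_)
  exact (index_dvd_of_le le_rfl).trans
    (((centralizer ((P : Subgroup G) : Set G)).relIndex_dvd_index_of_le
      (centralizer_le_normalizer _)).trans (index_dvd_of_le hle))

theorem eq_one_of_odd_sylow {H : Subgroup G} (hH : Odd (Nat.card H)) {x : G} (hx : x ∈ H)
    (hxP : x ∈ (P : Subgroup G)) : x = 1 := by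
  haveI : Fact (Nat.Prime 2) := ⟨Nat.prime_two⟩
  obtain ⟨k, hk⟩ := H86.Abelian.exists_orderOf P ⟨x, hxP⟩
  have ho := odd_orderOf_of_mem hH hx
  rw [show orderOf x = 2 ^ k from hk] at ho
  cases k with
  | zero => exact orderOf_eq_one_iff.1 (by simpa using hk)
  | succ k => exact absurd ho (by rw [pow_succ, Nat.odd_iff]; omega)

variable (hfix : H86.Abelian.FreeFusion P) (hrank : 8 ≤ Nat.card (omega P))
variable (hSE : IsStronglyEmbedded (bigM P))

include hfix hSE in
/-- The normalizer is transitive on the involutions of the Sylow subgroup. -/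
theorem exists_normalizer_conj {a b : G} (ha : a ∈ omega P) (ha1 : a ≠ 1) (hb : b ∈ omega P)
    (hb1 : b ≠ 1) : ∃ n ∈ normalizer ((P : Subgroup G) : Set G), n * a * n⁻¹ = b := by
  haveI : Fact (Nat.Prime 2) := ⟨Nat.prime_two⟩
  obtain ⟨g, hg⟩ := isConj_iff.1
    (H39.se_involutions_conj hSE (orderOf_omega ha ha1) (orderOf_omega hb hb1))
  obtain ⟨n, hn, he⟩ := P.conj_eq_normalizer_conj_of_mem a g⁻¹ ha.1 (by rw [inv_inv, hg]; exact hb.1)
  refine ⟨n⁻¹, inv_mem hn, ?_⟩
  rw [inv_inv, hg] at he
  rw [inv_inv, ← he]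

include hfix hSE in
/-- The automizer is regular on the involutions. -/
theorem eInd_eq {a : G} (ha : a ∈ omega P) (ha1 : a ≠ 1) :
    eInd P + 1 = Nat.card (omega P) := by
  classical
  set C := centralizer ((P : Subgroup G) : Set G)
  set N := normalizer ((P : Subgroup G) : Set G)
  let f : N ⧸ C.subgroupOf N → {x : omega P // x ≠ 1} := fun q =>
    Quotient.liftOn' q (fun n => ⟨⟨(n : G) * a * (n : G)⁻¹, conj_mem_omega P n.2 ha⟩,
      fun e => ha1 (conj_eq_one_iff.1 (congrArg Subtype.val e))⟩) (by
      intro n n' h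
      rw [QuotientGroup.leftRel_apply, mem_subgroupOf] at h
      refine Subtype.ext (Subtype.ext ?_)
      have hc := mem_centralizer_iff.1 h a ha.1
      push_cast at hc
      show (n : G) * a * (n : G)⁻¹ = (n' : G) * a * (n' : G)⁻¹
      calc (n : G) * a * (n : G)⁻¹ = (n : G) * (a * ((n : G)⁻¹ * n')) * (n' : G)⁻¹ := by group
        _ = (n : G) * ((n : G)⁻¹ * n' * a) * (n' : G)⁻¹ := by rw [hc]
        _ = _ := by group)
  have hb : Function.Bijective f := by
    constructor
    · intro q q'
      induction q using Quotient.inductionOn'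
      induction q' using Quotient.inductionOn'
      rename_i n n'
      intro e
      have e' : (n : G) * a * (n : G)⁻¹ = (n' : G) * a * (n' : G)⁻¹ :=
        congrArg (fun x : {x : omega P // x ≠ 1} => ((x : omega P) : G)) e
      refine Quotient.sound' ?_
      rw [QuotientGroup.leftRel_apply, mem_subgroupOf]
      refine hfix _ (n⁻¹ * n').2 a ha.1 ha1 ?_
      push_cast
      calc (n : G)⁻¹ * n' * a * ((n : G)⁻¹ * n')⁻¹ = (n : G)⁻¹ * ((n' : G) * a * (n' : G)⁻¹) * n := by
            group
        _ = a := by rw [← e']; group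
    · rintro ⟨⟨x, hx⟩, hx1⟩
      obtain ⟨n, hn, e⟩ := exists_normalizer_conj hfix hSE ha ha1 hx
        fun e => hx1 (Subtype.ext e)
      exact ⟨Quotient.mk'' ⟨n, hn⟩, Subtype.ext (Subtype.ext e)⟩
  have h := Nat.card_congr (Equiv.ofBijective f hb)
  change eInd P = _ at h
  have h2 : Nat.card {x : omega P // x ≠ 1} = Nat.card (omega P) - 1 := by
    cases nonempty_fintype (omega P)
    rw [Nat.card_eq_fintype_card, Nat.card_eq_fintype_card, Fintype.card_subtype_compl,
      Fintype.card_subtype_eq]
  have := Nat.card_pos (α := omega P)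
  omega

include hfix in
theorem centralizer_eq_sup {a : G} (ha : a ∈ (P : Subgroup G)) (ha1 : a ≠ 1) :
    centralizer ({a} : Set G) = oddAt a ⊔ (P : Subgroup G) := by
  refine le_antisymm (fun c hc => ?_) (sup_le (oddAt_le a) (mem_centralizer_of_mem ha))
  obtain ⟨k, hk, y, hy, rfl⟩ := centralizer_eq hfix ha ha1 hc
  exact mul_mem (mem_sup_left hk) (mem_sup_right hy)

include hfix in
theorem card_centralizer {a : G} (ha : a ∈ (P : Subgroup G)) (ha1 : a ≠ 1) :
    Nat.card (centralizer ({a} : Set G)) = Nat.card (oddAt a) * Nat.card (P : Subgroup G) := by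
  rw [centralizer_eq_sup hfix ha ha1]
  refine card_sup_of_disjoint (fun y hy => ?_) fun x hx hxP =>
    eq_one_of_odd_sylow (odd_card_oddAt a) hx hxP
  haveI : Fact (Nat.Prime 2) := ⟨Nat.prime_two⟩
  have hn := H86.Abelian.pNilAt_of_mem P hfix ha ha1
  have key : ∀ z ∈ (P : Subgroup G), ∀ x ∈ oddAt a, z * x * z⁻¹ ∈ oddAt a := by
    intro z hz x hx
    have hc : z * a * z⁻¹ = a := by
      rw [H86.Abelian.mul_comm_sylow P hz ha, mul_inv_cancel_right]
    have := conj_oddAt z hn (by rwa [hc]) hx
    rwa [hc] at this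
  refine mem_normalizer_iff.2 fun x => ⟨key y hy x, fun h => ?_⟩
  have := key y⁻¹ (inv_mem hy) _ h
  simpa [mul_assoc] using this

/-- The kernel of the automizer map of the big subgroup. -/
noncomputable def bigK (P : Sylow 2 G) [IsMulCommutative (P : Subgroup G)] : Subgroup G :=
  bigW P ⊔ (P : Subgroup G)

include hfix hrank in
theorem card_bigK : Nat.card (bigK P) = Nat.card (bigW P) * Nat.card (P : Subgroup G) :=
  card_sup_of_disjoint (fun _ hy => conj_mem_bigW hfix (le_normalizer hy))
    fun _ hx hxP => eq_one_of_odd_sylow (closure_spec hfix hrank).1 hx hxP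

include hfix in
theorem normalizer_bigK {n : G} (hn : n ∈ normalizer ((P : Subgroup G) : Set G)) :
    n ∈ normalizer (bigK P : Set G) :=
  mem_normalizer_iff_conj_image_eq.2 <| by
    rw [bigK, ← MulEquiv.coe_toMonoidHom, ← coe_map, Subgroup.map_sup, SetLike.coe_set_eq]
    congr 1
    · exact SetLike.coe_injective (by
        rw [coe_map]; exact mem_normalizer_iff_conj_image_eq.1 (conj_mem_bigW hfix hn))
    · exact SetLike.coe_injective (by
        rw [coe_map]; exact mem_normalizer_iff_conj_image_eq.1 hn)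

include hfix in
theorem bigM_le_normalizer_bigK : bigM P ≤ normalizer (bigK P : Set G) :=
  sup_le (le_sup_left.trans le_normalizer) fun _ hn => normalizer_bigK hfix hn

include hfix hrank in
/-- Elements of the normalizer in the kernel centralize. -/
theorem mem_centralizer_of_bigK {n : G} (hn : n ∈ normalizer ((P : Subgroup G) : Set G))
    (hK : n ∈ bigK P) : n ∈ centralizer ((P : Subgroup G) : Set G) := by
  rw [bigK, ← SetLike.mem_coe, coe_mul_of_right_le_normalizer_left _ _
    (fun y hy => conj_mem_bigW hfix (le_normalizer hy))] at hK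
  obtain ⟨w, hw, y, hy, rfl⟩ := hK
  have hwN : w ∈ normalizer ((P : Subgroup G) : Set G) := by
    have := mul_mem hn (inv_mem (le_normalizer hy))
    rwa [mul_inv_cancel_right] at this
  refine mul_mem (mem_centralizer_iff.2 fun z hz => ?_)
    (mem_centralizer_iff.2 fun z hz => H86.Abelian.mul_comm_sylow P hz hy)
  have h1 : w * z * w⁻¹ * z⁻¹ ∈ bigW P := by
    rw [show w * z * w⁻¹ * z⁻¹ = w * (z * w⁻¹ * z⁻¹) by group]
    exact mul_mem hw ((mem_normalizer_iff.1 (conj_mem_bigW hfix (le_normalizer hz)) w⁻¹).1 (inv_mem hw))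
  have h2 : w * z * w⁻¹ * z⁻¹ ∈ (P : Subgroup G) :=
    mul_mem ((mem_normalizer_iff.1 hwN z).1 hz) (inv_mem hz)
  have h3 := eq_one_of_odd_sylow (closure_spec hfix hrank).1 h1 h2
  rw [mul_inv_eq_one, mul_inv_eq_iff_eq_mul] at h3
  exact h3.symm

include hfix hrank in
theorem card_bigM : Nat.card (bigM P) = eInd P * Nat.card (bigK P) := by
  classical
  set C := centralizer ((P : Subgroup G) : Set G)
  set N := normalizer ((P : Subgroup G) : Set G)
  have hKM : bigK P ≤ bigM P := sup_le bigW_le_bigM sylow_le_bigM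
  have hrel : (bigK P).relIndex (bigM P) = eInd P := by
    let f : N ⧸ C.subgroupOf N → bigM P ⧸ (bigK P).subgroupOf (bigM P) := fun q =>
      Quotient.liftOn' q
        (fun n => (QuotientGroup.mk (⟨n, normalizer_le_bigM n.2⟩ : bigM P) : _)) (by
        intro n n' h
        rw [QuotientGroup.leftRel_apply, mem_subgroupOf] at h
        refine QuotientGroup.eq.2 ?_
        rw [mem_subgroupOf]
        have hle : C ≤ bigK P := fun c hc => by
          obtain ⟨a, ha⟩ : ∃ a : omega P, a ≠ 1 := by
            haveI : Nontrivial (omega P) := Finite.one_lt_card_iff_nontrivial.1 (by omega)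
            exact exists_ne 1
          have ha1 : (a : G) ≠ 1 := fun e => ha (Subtype.ext e)
          have hca : c ∈ centralizer ({(a : G)} : Set G) :=
            mem_centralizer_singleton_iff.2 (mem_centralizer_iff.1 hc a a.2.1).symm
          obtain ⟨k, hk, y, hy, rfl⟩ := centralizer_eq hfix a.2.1 ha1 hca
          exact mul_mem (mem_sup_left (oddAt_le_bigW_omega a.2 ha1 hk)) (mem_sup_right hy)
        exact hle h)
    have hb : Function.Bijective f := by
      constructor
      · intro q q'
        induction q using Quotient.inductionOn'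
        induction q' using Quotient.inductionOn'
        rename_i n n'
        intro e
        refine Quotient.sound' ?_
        rw [QuotientGroup.leftRel_apply, mem_subgroupOf]
        have h := QuotientGroup.eq.1 e
        rw [mem_subgroupOf] at h
        exact mem_centralizer_of_bigK hfix hrank (n⁻¹ * n').2 h
      · intro q
        induction q using Quotient.inductionOn'
        rename_i x
        obtain ⟨w, hw, n, hn, e⟩ := (mem_bigM hfix).1 x.2
        refine ⟨Quotient.mk'' ⟨n, hn⟩, QuotientGroup.eq.2 ?_⟩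
        rw [mem_subgroupOf]
        push_cast
        rw [e]
        rw [show n⁻¹ * (w * n) = n⁻¹ * w * n⁻¹⁻¹ by group]
        exact (mem_normalizer_iff.1 (normalizer_bigK hfix (inv_mem hn)) w).1 (mem_sup_left hw)
    exact (Nat.card_congr (Equiv.ofBijective f hb)).symm
  rw [← hrel, relIndex, ← Nat.card_congr (subgroupOfEquivOfLe hKM).toEquiv]
  exact (index_mul_card _).symm

end Cfsg.Agent.H29.AbTwo
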