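import Cfsg.Agent.H29.AbTwo.Inertia
import Cfsg.Agent.H28.RankTwoFPF
import Cfsg.Agent.S0205
import Cfsg.Agent.S0949

/-!
# Free action of an automizer of prime order on an abelian Sylow subgroup of rank at most two
-/

set_option autoImplicit false
set_option linter.unusedSectionVars false
set_option linter.style.haveILetI false

namespace Cfsg.Agent.H29.AbTwo

open Subgroup

universe u

variable {G : Type u} [Group G] [Finite G] {P : Sylow 2 G} [IsMulCommutative (P : Subgroup G)]
variable (he : (eInd P).Prime) (hf : fixedP P = ⊥) (hsmall : Nat.card (omega P) < 8)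

include he hf hsmall in
theorem card_omega_eq : Nat.card (omega P) = 4 ∧ eInd P = 3 := by
  classical
  haveI : Fact (Nat.Prime 2) := ⟨Nat.prime_two⟩
  have hPne : (P : Subgroup G) ≠ ⊥ := fun h => by
    have hC : centralizer ((P : Subgroup G) : Set G) = ⊤ := eq_top_iff.2 fun x _ =>
      mem_centralizer_iff.2 fun y hy => by
        rw [SetLike.mem_coe, h, mem_bot] at hy; rw [hy, one_mul, mul_one]
    have := he.ne_one
    rw [eInd, hC] at this
    exact this (relIndex_eq_one.2 le_top)
  obtain ⟨⟨x, hx⟩, hxne⟩ := ne_bot_iff_exists_ne_one.1 hPne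
  obtain ⟨j, hj, hj1⟩ := exists_pow_omega hx fun e => hxne (Subtype.ext e)
  set a := x ^ j
  set C := centralizer ((P : Subgroup G) : Set G)
  set N := normalizer ((P : Subgroup G) : Set G)
  haveI : (C.subgroupOf N).Normal :=
    normal_subgroupOf_of_le_normalizer fun y hy => H82.normalizer_le_normalizer_centralizer _ hy
  have hfree := freeFusion_of_bot he hf
  let f : N ⧸ C.subgroupOf N → {y : omega P // y ≠ 1} := fun q =>
    ⟨⟨(q.out : G) * a * (q.out : G)⁻¹, conj_mem_omega P q.out.2 hj⟩,
      fun e => hj1 (conj_eq_one_iff.1 (congrArg Subtype.val e))⟩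
  have hinj : Function.Injective f := by
    intro q q' e
    have e' : (q.out : G) * a * (q.out : G)⁻¹ = (q'.out : G) * a * (q'.out : G)⁻¹ :=
      congrArg (fun y : {y : omega P // y ≠ 1} => ((y : omega P) : G)) e
    rw [← q.out_eq', ← q'.out_eq']
    refine QuotientGroup.eq.2 (mem_subgroupOf.2 ?_)
    refine hfree _ (q.out⁻¹ * q'.out).2 a hj.1 hj1 ?_
    push_cast
    calc (q.out : G)⁻¹ * q'.out * a * ((q.out : G)⁻¹ * q'.out)⁻¹
        = (q.out : G)⁻¹ * ((q'.out : G) * a * (q'.out : G)⁻¹) * q.out := by group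
      _ = a := by rw [← e']; group
  have h1 := Nat.card_le_card_of_injective f hinj
  change eInd P ≤ _ at h1
  have h2 : Nat.card {y : omega P // y ≠ 1} + 1 = Nat.card (omega P) := by
    cases nonempty_fintype (omega P)
    rw [Nat.card_eq_fintype_card, Nat.card_eq_fintype_card, Fintype.card_subtype_compl,
      Fintype.card_subtype_eq]
    have := Fintype.card_pos_iff.2 ⟨(1 : omega P)⟩
    omega
  obtain ⟨k, hk⟩ := IsPGroup.iff_card.1 (P.isPGroup'.to_le (omega_le P))
  have h3 := he.two_le
  have hodd := odd_eInd (P := P)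
  rw [Nat.odd_iff] at hodd
  have hk3 : k < 3 := by
    rw [hk] at hsmall
    exact (Nat.pow_lt_pow_iff_right (le_refl 2)).1 (by norm_num; exact hsmall)
  rw [hk] at h2 ⊢
  have hk2 : k = 2 := by
    rcases Nat.lt_or_ge k 2 with h | h
    · have := Nat.pow_le_pow_right (show 0 < 2 by norm_num) (show k ≤ 1 by omega)
      omega
    · omega
  rw [hk2] at h2 ⊢
  omega

include he hf hsmall in
/-- A nonsolvable group has a four-group as Sylow subgroup. -/
theorem card_sylow_eq_four (hns : ¬ Group.IsSolvable G) : Nat.card (P : Subgroup G) = 4 := by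
  classical
  haveI : Fact (Nat.Prime 2) := ⟨Nat.prime_two⟩
  obtain ⟨hΩ, he3⟩ := card_omega_eq he hf hsmall
  set C := centralizer ((P : Subgroup G) : Set G)
  set N := normalizer ((P : Subgroup G) : Set G)
  haveI : (C.subgroupOf N).Normal :=
    normal_subgroupOf_of_le_normalizer fun y hy => H82.normalizer_le_normalizer_centralizer _ hy
  obtain ⟨n, hn, hnC⟩ : ∃ n ∈ N, n ∉ C := by
    by_contra h
    push Not at h
    exact he.ne_one (relIndex_eq_one.2 h)
  have hfree := freeFusion_of_bot he hf
  have hn3 : n ^ 3 ∈ C := by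
    have h : (⟨n, hn⟩ : N) ^ (C.subgroupOf N).index ∈ C.subgroupOf N := pow_index_mem _ _
    rw [show (C.subgroupOf N).index = 3 from he3, mem_subgroupOf] at h
    simpa using h
  let σ := H62.conjAut (P : Subgroup G) hn
  have hσ : ∀ y, ((σ y : (P : Subgroup G)) : G) = n * (y : G) * n⁻¹ := fun y => H62.conjAut_coe _ _ _
  let d : H28.RankTwo.Hyp (P : Subgroup G) :=
    { p2 := P.isPGroup'
      σ := σ
      h3 := fun y => Subtype.ext (by
        rw [hσ, hσ, hσ]
        have hn3' : n * n * n ∈ C := by
          rw [show n * n * n = n ^ 3 by rw [pow_succ, pow_two]]; exact hn3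
        calc n * (n * (n * (y : G) * n⁻¹) * n⁻¹) * n⁻¹ = (n * n * n) * (y : G) * (n * n * n)⁻¹ := by
              group
          _ = (y : G) := by rw [← mem_centralizer_iff.1 hn3' (y : G) y.2, mul_inv_cancel_right])
      hfp := fun y hy => by
        by_contra hy1
        exact hnC (hfree n hn (y : G) y.2 (fun e => hy1 (Subtype.ext e))
          (by rw [← hσ, hy]))
      hz := fun x _ => mem_center_iff.2 fun y => Subtype.ext
        (H86.Abelian.mul_comm_sylow P y.2 x.2)
      hI := by
        rw [← hΩ]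
        exact Nat.card_congr
          { toFun := fun x => ⟨(x.1 : G), x.1.2, congrArg Subtype.val x.2⟩
            invFun := fun x => ⟨⟨x.1, x.2.1⟩, Subtype.ext x.2.2⟩
            left_inv := fun x => rfl
            right_inv := fun x => rfl } }
  obtain ⟨m, -, -, hcard, ⟨iso⟩⟩ := d.homocyclic ⊤ (fun _ _ => mem_top _) fun a _ b _ =>
    Subtype.ext (H86.Abelian.mul_comm_sylow P a.2 b.2)
  rw [card_top] at hcard
  by_contra hne
  have hm : 2 ≤ m := by
    by_contra hm
    interval_cases m
    · have := Nat.le_of_dvd Nat.card_pos (card_dvd_of_le (omega_le P))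
      rw [hΩ, hcard] at this
      norm_num at this
    · exact hne (by rw [hcard]; norm_num)
  let O := pPrimeCore 2 G
  have hOodd : Odd (Nat.card O) := by
    rw [Nat.odd_iff]
    have := Cores.not_dvd_card_pPrimeCore (p := 2) (G := G)
    change ¬ 2 ∣ Nat.card O at this
    omega
  let π := QuotientGroup.mk' O
  let Q := P.mapSurjective (QuotientGroup.mk'_surjective O)
  have hQ : (Q : Subgroup (G ⧸ O)) = (P : Subgroup G).map π := Sylow.coe_mapSurjective _ _
  have hinjP : Function.Injective (π.comp (P : Subgroup G).subtype) := by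
    refine (injective_iff_map_eq_one _).2 fun y hy => Subtype.ext ?_
    exact eq_one_of_odd_sylow hOodd ((QuotientGroup.eq_one_iff _).1 hy) y.2
  let isoQ : (P : Subgroup G) ≃* (Q : Subgroup (G ⧸ O)) :=
    (MonoidHom.ofInjective hinjP).trans (MulEquiv.subgroupCongr (by
      rw [hQ, MonoidHom.range_comp, range_subtype]))
  obtain ⟨hQn, -, hQidx⟩ := S0949.result Q m hm ((isoQ.symm.trans topEquiv.symm).trans iso)
    fun R hRn hR => by
    have h := Cores.le_pPrimeCore (p := 2) (N := R) (hN := hRn)
      (Nat.coprime_two_right.2 hR)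
    rw [Cores.pPrimeCore_quotient_pPrimeCore, le_bot_iff] at h
    exact h
  apply hns
  haveI : Group.IsSolvable O := S0205.result hOodd
  haveI : IsMulCommutative (Q : Subgroup (G ⧸ O)) := ⟨⟨fun x y => by
    obtain ⟨x', rfl⟩ := isoQ.surjective x
    obtain ⟨y', rfl⟩ := isoQ.surjective y
    rw [← map_mul, ← map_mul, mul_comm' x' y']⟩⟩
  haveI : Group.IsSolvable (Q : Subgroup (G ⧸ O)) := Group.isSolvable_of_comm mul_comm'
  haveI := hQn
  have hquot : Group.IsSolvable ((G ⧸ O) ⧸ (Q : Subgroup (G ⧸ O))) := by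
    haveI : IsCyclic ((G ⧸ O) ⧸ (Q : Subgroup (G ⧸ O))) := by
      rcases hQidx with h | h
      · haveI : Subsingleton ((G ⧸ O) ⧸ (Q : Subgroup (G ⧸ O))) :=
          (Nat.card_eq_one_iff_unique.1 h).1
        exact isCyclic_of_subsingleton
      · haveI : Fact (Nat.Prime 3) := ⟨Nat.prime_three⟩
        exact isCyclic_of_prime_card h
    exact Group.isSolvable_of_comm fun a b => mul_comm' a b
  haveI : Group.IsSolvable (G ⧸ O) :=
    (Group.isSolvable_iff_subgroup_quotient (Q : Subgroup (G ⧸ O))).2 ⟨inferInstance, hquot⟩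
  exact (Group.isSolvable_iff_subgroup_quotient O).2 ⟨inferInstance, inferInstance⟩

end Cfsg.Agent.H29.AbTwo
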