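import Cfsg.Agent.H29.AbTwo.FreeMain
import Cfsg.Agent.H29.AbTwo.RankTwo
import Cfsg.Agent.S0215
import Cfsg.Agent.S4571

/-!
# The principal block for an automizer of prime order on an abelian Sylow 2-subgroup
-/

set_option autoImplicit false
set_option linter.unusedSectionVars false
set_option linter.style.haveILetI false

namespace Cfsg.Agent.H29.AbTwo

open Subgroup

universe u

variable {G : Type u} [Group G] [Finite G] (P : Sylow 2 G) [IsMulCommutative (P : Subgroup G)]

/-- The conclusion of the induction. -/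
def Concl (M : Ideal AlgInt) : Prop :=
  blockRank 2 (principalBlock M G) = eInd P ∧
    (¬ Group.IsSolvable G →
      Nat.card (P : Subgroup G) = Nat.card (fixedP P) * (eInd P + 1))

variable {P}

section Sub

variable {H : Subgroup G} (hle : (P : Subgroup G) ≤ H)
  (hN : normalizer ((P : Subgroup G) : Set G) ≤ H)

include hle in
theorem isMulCommutative_subtype : IsMulCommutative ((P.subtype hle : Sylow 2 H) : Subgroup H) :=
  ⟨⟨fun a b => Subtype.ext (Subtype.ext (H86.Abelian.mul_comm_sylow P a.2 b.2))⟩⟩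

include hle hN in
theorem sub_invariants :
    haveI := isMulCommutative_subtype hle
    eInd (P.subtype hle) = eInd P ∧
      Nat.card (fixedP (P.subtype hle)) = Nat.card (fixedP P) ∧
      Nat.card ((P.subtype hle : Sylow 2 H) : Subgroup H) = Nat.card (P : Subgroup G) := by
  haveI := isMulCommutative_subtype hle
  have hP : ((P.subtype hle : Sylow 2 H) : Subgroup H) = (P : Subgroup G).subgroupOf H := rfl
  have hn : normalizer (((P.subtype hle : Sylow 2 H) : Subgroup H) : Set H) =
      (normalizer ((P : Subgroup G) : Set G)).subgroupOf H := by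
    rw [hP, subgroupOf_normalizer_eq hle]
  have hc : centralizer (((P.subtype hle : Sylow 2 H) : Subgroup H) : Set H) =
      (centralizer ((P : Subgroup G) : Set G)).subgroupOf H := by
    ext h
    rw [hP, mem_subgroupOf, mem_centralizer_iff, mem_centralizer_iff]
    refine ⟨fun hh y hy => ?_, fun hh y hy => Subtype.ext (hh (y : G) hy)⟩
    exact congrArg Subtype.val (hh ⟨y, hle hy⟩ hy)
  refine ⟨?_, ?_, Nat.card_congr (subgroupOfEquivOfLe hle).toEquiv⟩
  · rw [eInd, eInd, hn, hc, relIndex_subgroupOf hN]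
  · have hf : fixedP (P.subtype hle) = (fixedP P).subgroupOf H := by
      ext x
      rw [mem_fixedP, mem_subgroupOf, mem_fixedP, hn]
      constructor
      · exact fun h => ⟨h.1, fun n hn' => congrArg Subtype.val (h.2 ⟨n, hN hn'⟩ hn')⟩
      · exact fun h => ⟨h.1, fun n hn' => Subtype.ext (h.2 (n : G) hn')⟩
    rw [hf]
    exact Nat.card_congr (subgroupOfEquivOfLe (inf_le_left.trans hle)).toEquiv

end Sub

include P in
/-- A central involution gives a solvable group as soon as its centralizer is solvable. -/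
theorem isSolvable_of_centralizer {z : G} (hz : z ∈ fixedP P) (hzΩ : z ∈ omega P) (hz1 : z ≠ 1)
    (hH : Group.IsSolvable (centralizer ({z} : Set G))) : Group.IsSolvable G := by
  haveI : Fact (Nat.Prime 2) := ⟨Nat.prime_two⟩
  obtain ⟨R, hRn, hRodd, hR⟩ := S0215.result P z (orderOf_omega hzΩ hz1) hz.1 fun g hg => by
    obtain ⟨n, hn, hne⟩ := P.conj_eq_normalizer_conj_of_mem z g⁻¹ hz.1 (by rwa [inv_inv])
    rw [inv_inv] at hne
    rw [hne, mul_assoc, ← (mem_fixedP.1 hz).2 n hn, inv_mul_cancel_left]
  haveI := hRn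
  haveI : Group.IsSolvable R := S0205.result hRodd
  have hzz : z * z = 1 := by rw [← pow_two]; exact hzΩ.2
  have hzi : z⁻¹ = z := inv_eq_of_mul_eq_one_right hzz
  have hdec : ∀ g : G, ∃ v ∈ R, v * g ∈ centralizer ({z} : Set G) := by
    intro g
    set m := z * (g * z * g⁻¹) with hm
    have hmR : m ∈ R := by
      have h := hR g
      rw [hzi] at h
      have e : m = z * g * z * g⁻¹ := by rw [hm]; group
      rwa [e]
    have hinv : z * m * z⁻¹ = m⁻¹ := by
      have hgz : (g * z * g⁻¹)⁻¹ = g * z * g⁻¹ := by rw [conj_inv, hzi]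
      rw [hm, mul_inv_rev, hgz, hzi, ← mul_assoc, hzz, one_mul]
    obtain ⟨j, hj⟩ := odd_orderOf_of_mem hRodd hmR
    set v := m ^ (j + 1) with hv
    have hv2 : v * v = m := by
      rw [hv, ← pow_add, show j + 1 + (j + 1) = orderOf m + 1 by omega, pow_succ,
        pow_orderOf_eq_one, one_mul]
    have hvz : z * v = v⁻¹ * z := by
      have h : z * v * z⁻¹ = v⁻¹ := by rw [hv, ← conj_pow, hinv, inv_pow]
      exact mul_inv_eq_iff_eq_mul.1 h
    refine ⟨v, pow_mem hmR _, mem_centralizer_singleton_iff.2 ?_⟩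
    have hgz : g * z * g⁻¹ = z * m := by rw [hm, ← mul_assoc, hzz, one_mul]
    calc v * g * z = v * (g * z * g⁻¹) * g := by group
      _ = v * (z * (v * v)) * g := by rw [hgz, hv2]
      _ = v * ((z * v) * v) * g := by group
      _ = v * (v⁻¹ * z * v) * g := by rw [hvz]
      _ = z * (v * g) := by group
  haveI : Group.IsSolvable (G ⧸ R) := by
    refine Group.isSolvable_of_surjective
      (f := (QuotientGroup.mk' R).comp (centralizer ({z} : Set G)).subtype) fun q => ?_
    obtain ⟨g, rfl⟩ := QuotientGroup.mk'_surjective R q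
    obtain ⟨v, hv, hvg⟩ := hdec g
    refine ⟨⟨v * g, hvg⟩, ?_⟩
    show QuotientGroup.mk' R (v * g) = _
    rw [map_mul, show QuotientGroup.mk' R v = 1 from (QuotientGroup.eq_one_iff v).2 hv, one_mul]
  exact (Group.isSolvable_iff_subgroup_quotient R).2 ⟨inferInstance, inferInstance⟩

section Quot

variable {z : G} (hz : z ∈ fixedP P) (hzΩ : z ∈ omega P) [(zpowers z).Normal]

theorem isMulCommutative_quot [Fact (Nat.Prime 2)] :
    IsMulCommutative
      ((P.mapSurjective (QuotientGroup.mk'_surjective (zpowers z)) : Sylow 2 (G ⧸ zpowers z)) :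
        Subgroup (G ⧸ zpowers z)) := by
  refine ⟨⟨fun a b => Subtype.ext ?_⟩⟩
  obtain ⟨x, hx, hxa⟩ := (SetLike.ext_iff.1 (Sylow.coe_mapSurjective (QuotientGroup.mk'_surjective (zpowers z)) P) a.1).1 a.2
  obtain ⟨y, hy, hyb⟩ := (SetLike.ext_iff.1 (Sylow.coe_mapSurjective (QuotientGroup.mk'_surjective (zpowers z)) P) b.1).1 b.2
  show a.1 * b.1 = b.1 * a.1
  rw [← hxa, ← hyb, ← map_mul, ← map_mul, H86.Abelian.mul_comm_sylow P hx hy]

include hz hzΩ in
theorem quot_invariants [Fact (Nat.Prime 2)] (hz1 : z ≠ 1) :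
    haveI := isMulCommutative_quot (P := P) (z := z)
    eInd (P.mapSurjective (QuotientGroup.mk'_surjective (zpowers z))) = eInd P ∧
      Nat.card (fixedP P) =
        2 * Nat.card (fixedP (P.mapSurjective (QuotientGroup.mk'_surjective (zpowers z)))) ∧
      Nat.card (P : Subgroup G) =
        2 * Nat.card ((P.mapSurjective (QuotientGroup.mk'_surjective (zpowers z)) :
          Sylow 2 (G ⧸ zpowers z)) : Subgroup (G ⧸ zpowers z)) := by
  haveI := isMulCommutative_quot (P := P) (z := z)
  set π := QuotientGroup.mk' (zpowers z)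
  have hπs : Function.Surjective π := QuotientGroup.mk'_surjective _
  set Q := P.mapSurjective (QuotientGroup.mk'_surjective (zpowers z)) with hQdef
  have hQ : (Q : Subgroup (G ⧸ zpowers z)) = (P : Subgroup G).map π := Sylow.coe_mapSurjective _ _
  have hzP : zpowers z ≤ (P : Subgroup G) := zpowers_le.2 hz.1
  have hPc : ((Q : Subgroup (G ⧸ zpowers z))).comap π = (P : Subgroup G) := by
    rw [hQ, comap_map_eq, QuotientGroup.ker_mk', sup_eq_left.2 hzP]
  set N := normalizer ((P : Subgroup G) : Set G)
  set C := centralizer ((P : Subgroup G) : Set G)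
  have hNc : (normalizer ((Q : Subgroup (G ⧸ zpowers z)) : Set (G ⧸ zpowers z))).comap π = N := by
    rw [comap_normalizer_eq_of_surjective _ hπs, hPc]
  have hzN : ∀ n ∈ N, n * z = z * n := (mem_fixedP.1 hz).2
  -- an element of the normalizer acting trivially modulo the involution acts trivially
  have key : ∀ n ∈ N, ∀ x ∈ (P : Subgroup G), n * x * n⁻¹ * x⁻¹ ∈ zpowers z → n * x = x * n := by
    intro n hn x hx hmem
    set d := n * x * n⁻¹ * x⁻¹ with hd
    have hnx : n * x * n⁻¹ = d * x := by rw [hd]; group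
    have hnd : n * d * n⁻¹ = d := by
      obtain ⟨i, hi⟩ := mem_zpowers_iff.1 hmem
      rw [← hi, ((show Commute n z from hzN n hn).zpow_right i).eq, mul_inv_cancel_right]
    have hd2 : d * d = 1 := by
      obtain ⟨i, hi⟩ := mem_zpowers_iff.1 hmem
      rw [← hi, ← zpow_add, ← two_mul, zpow_mul, zpow_ofNat, hzΩ.2, one_zpow]
    have h2 : n ^ 2 * x * (n ^ 2)⁻¹ = x := by
      calc n ^ 2 * x * (n ^ 2)⁻¹ = n * (n * x * n⁻¹) * n⁻¹ := by rw [pow_two]; group
        _ = n * (d * x) * n⁻¹ := by rw [hnx]
        _ = (n * d * n⁻¹) * (n * x * n⁻¹) := by group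
        _ = d * (d * x) := by rw [hnd, hnx]
        _ = x := by rw [← mul_assoc, hd2, one_mul]
    haveI : (C.subgroupOf N).Normal :=
      normal_subgroupOf_of_le_normalizer fun y hy => H82.normalizer_le_normalizer_centralizer _ hy
    have heC : n ^ eInd P ∈ C := by
      have h : (⟨n, hn⟩ : N) ^ (C.subgroupOf N).index ∈ C.subgroupOf N := pow_index_mem _ _
      rw [mem_subgroupOf] at h
      push_cast at h
      exact h
    obtain ⟨j, hj⟩ := odd_eInd (P := P)
    have h2' : n ^ (2 * j) ∈ centralizer ({x} : Set G) := by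
      rw [pow_mul]
      exact pow_mem (mem_centralizer_singleton_iff.2 (mul_inv_eq_iff_eq_mul.1 h2)) j
    have he' : n ^ (2 * j + 1) ∈ centralizer ({x} : Set G) := hj ▸
      mem_centralizer_singleton_iff.2 (mem_centralizer_iff.1 heC x hx).symm
    have := mul_mem (inv_mem h2') he'
    rw [pow_succ, inv_mul_cancel_left] at this
    exact mem_centralizer_singleton_iff.1 this
  have hQmem : ∀ {x : G}, x ∈ (P : Subgroup G) → π x ∈ (Q : Subgroup (G ⧸ zpowers z)) :=
    fun {x} hx => by rw [← mem_comap, hPc]; exact hx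
  have hcomm : ∀ {n x : G}, π n * π x = π x * π n → n * x * n⁻¹ * x⁻¹ ∈ zpowers z := by
    intro n x h
    refine (QuotientGroup.eq_one_iff _).1 ?_
    show π (n * x * n⁻¹ * x⁻¹) = 1
    rw [map_mul, map_mul, map_mul, map_inv, map_inv, h, mul_inv_cancel_right, mul_inv_cancel]
  have hCc : (centralizer ((Q : Subgroup (G ⧸ zpowers z)) : Set (G ⧸ zpowers z))).comap π = C := by
    ext g
    rw [mem_comap, mem_centralizer_iff, mem_centralizer_iff]
    refine ⟨fun h y hy => ?_, fun h y hy => ?_⟩
    · have hgN : g ∈ N := by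
        rw [← hNc, mem_comap]
        exact centralizer_le_normalizer _ (mem_centralizer_iff.2 h)
      exact (key g hgN y hy (hcomm (h (π y) (hQmem hy)).symm)).symm
    · rw [SetLike.mem_coe, hQ] at hy
      obtain ⟨x, hx, rfl⟩ := hy
      rw [← map_mul, ← map_mul, h x hx]
  have hfc : (fixedP Q).comap π = fixedP P := by
    ext x
    rw [mem_comap, mem_fixedP, mem_fixedP, ← mem_comap, hPc]
    refine and_congr_right fun hx => ⟨fun h n hn => ?_, fun h m hm => ?_⟩
    · have hn' : π n ∈ normalizer ((Q : Subgroup (G ⧸ zpowers z)) : Set (G ⧸ zpowers z)) := by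
        rw [← mem_comap, hNc]; exact hn
      exact key n hn x hx (hcomm (h (π n) hn'))
    · obtain ⟨n, rfl⟩ := hπs m
      have hn : n ∈ N := by rw [← hNc, mem_comap]; exact hm
      rw [← map_mul, ← map_mul, h n hn]
  have hzo : Nat.card (zpowers z) = 2 := by rw [Nat.card_zpowers, orderOf_omega hzΩ hz1]
  have hcard : ∀ R : Subgroup (G ⧸ zpowers z), Nat.card (R.comap π) = 2 * Nat.card R := by
    intro R
    refine Nat.eq_of_mul_eq_mul_right (Nat.pos_of_ne_zero (index_ne_zero_of_finite (H := R))) ?_
    have h1 := (R.comap π).card_mul_index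
    rw [index_comap_of_surjective _ hπs, card_eq_card_quotient_mul_card_subgroup (zpowers z), hzo,
      ← R.card_mul_index] at h1
    rw [h1]; ring
  refine ⟨?_, by rw [← hfc, hcard], by rw [← hcard, hPc]⟩
  rw [eInd, eInd]
  change _ = C.relIndex N
  rw [← hCc, relIndex_comap, ← hNc, map_comap_eq_self_of_surjective hπs]

end Quot

/-- The induction. -/
theorem concl_of_card : ∀ (n : ℕ) (G : Type u) [Group G] [Fintype G] (_ : Nat.card G = n)
    (M : Ideal AlgInt) (_ : IsPModular 2 M) (P : Sylow 2 G) [IsMulCommutative (P : Subgroup G)]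
    (_ : (eInd P).Prime), Concl P M := by
  intro n
  induction n using Nat.strong_induction_on with
  | _ n ih =>
  intro G _ _ hn M hM P _ he
  classical
  haveI : Fact (Nat.Prime 2) := ⟨Nat.prime_two⟩
  by_cases hf : fixedP P = ⊥
  · have hfree := freeFusion_of_bot he hf
    have hab := normalizer_comm he
    have hf1 : Nat.card (fixedP P) = 1 := card_eq_one.2 hf
    rw [Concl, hf1, one_mul]
    by_cases hrank : 8 ≤ Nat.card (omega P)
    · exact free_main hfree hrank hab hM
    · obtain ⟨hΩ, he3⟩ := card_omega_eq he hf (by omega)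
      have hP : (P : Subgroup G) ≠ ⊥ := fun h => by
        have h1 := Nat.le_of_dvd Nat.card_pos (card_dvd_of_le (omega_le P))
        rw [hΩ, h, card_bot] at h1
        omega
      refine ⟨((bound P hM hfree hP hab (e := eInd P) rfl).2.2.2 (by omega)).2, fun hns => ?_⟩
      rw [he3, card_sylow_eq_four he hf (by omega) hns]
  · obtain ⟨z, hz, hzΩ, hz1⟩ := exists_fixed_omega hf
    set H := centralizer ({z} : Set G)
    have hl := blockRank_centralizer hM hz
    by_cases htop : H = ⊤
    · have hzc : ∀ g : G, g * z = z * g := fun g =>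
        mem_centralizer_singleton_iff.1 (show g ∈ H from htop ▸ mem_top g)
      haveI : (zpowers z).Normal := ⟨fun x hx g => by
        obtain ⟨i, rfl⟩ := mem_zpowers_iff.1 hx
        rw [((show Commute g z from hzc g).zpow_right i).eq, mul_inv_cancel_right]
        exact hx⟩
      cases nonempty_fintype (G ⧸ zpowers z)
      haveI := isMulCommutative_quot (P := P) (z := z)
      obtain ⟨hei, hfc, hPc⟩ := quot_invariants hz hzΩ hz1
      have hzo : Nat.card (zpowers z) = 2 := by rw [Nat.card_zpowers, orderOf_omega hzΩ hz1]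
      have hlt : Nat.card (G ⧸ zpowers z) < n := by
        rw [← hn, card_eq_card_quotient_mul_card_subgroup (zpowers z), hzo]
        have := Nat.card_pos (α := G ⧸ zpowers z)
        omega
      obtain ⟨hlq, hqq⟩ := ih _ hlt (G ⧸ zpowers z) rfl M hM
        (P.mapSurjective (QuotientGroup.mk'_surjective (zpowers z))) (hei ▸ he)
      have hpg : IsPGroup 2 (zpowers z) := IsPGroup.of_card (n := 1) (by rw [hzo, pow_one])
      have hsup : zpowers z ⊔ centralizer (zpowers z : Set G) = ⊤ := by
        refine eq_top_iff.2 fun g _ => mem_sup_right (mem_centralizer_iff.2 fun x hx => ?_)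
        obtain ⟨i, rfl⟩ := mem_zpowers_iff.1 hx
        exact ((show Commute g z from hzc g).zpow_right i).eq.symm
      refine ⟨by rw [S4571.result 2 M hM (zpowers z) hpg hsup, hlq, hei], fun hns => ?_⟩
      have hnsq : ¬ Group.IsSolvable (G ⧸ zpowers z) := fun h => hns (by
        haveI : Group.IsSolvable (zpowers z) := Group.isSolvable_of_comm fun a b => mul_comm' a b
        exact (Group.isSolvable_iff_subgroup_quotient (zpowers z)).2 ⟨inferInstance, h⟩)
      rw [hPc, hfc, hqq hnsq, hei]
      ring
    · cases nonempty_fintype H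
      have hlt : Nat.card H < n := hn ▸ lt_of_le_of_ne (card_le_card_group H)
        fun h => htop ((card_eq_iff_eq_top H).1 h)
      have hN : normalizer ((P : Subgroup G) : Set G) ≤ H := centralizer_singleton_ge hz
      have hle : (P : Subgroup G) ≤ H := le_normalizer.trans hN
      haveI := isMulCommutative_subtype hle
      obtain ⟨hei, hfc, hPc⟩ := sub_invariants hle hN
      obtain ⟨hlH, hqH⟩ := ih _ hlt H rfl M hM (P.subtype hle) (hei ▸ he)
      refine ⟨by rw [← hl, hlH, hei], fun hns => ?_⟩
      rw [← hPc, ← hfc, ← hei]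
      exact hqH fun h => hns (isSolvable_of_centralizer hz hzΩ hz1 h)

end Cfsg.Agent.H29.AbTwo
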